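import Groth.Agent.Coherent.K55.Aff
import Groth.Agent.Coherent.K55.Pack
import Groth.Agent.Coherent.K56.Horiz

/-!
# Base change for the cohomology of a proper flat family, with the canonical maps

`X` proper and of finite presentation over `A`, `F` of finite presentation and flat over `A`,
`A → B`, `j : X_B ⟶ X`. The map `H^n(X, F) ⊗_A B → H^n(X_B, j^*F)`, `x ⊗ b ↦ b • j^*x`
(`CohPull.pullMod`) is bijective

* if `B` is flat over `A` (`isBC_pullMod`, `exists_equiv`);
* if `H^{n+1}` vanishes after all base changes (`isBC_pullMod_top`, `exists_equiv_top`).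

Functoriality: `pullMod_comp`, `pullMod_smul`, `map_pullMod`.
-/

set_option autoImplicit false
universe u

open CategoryTheory CategoryTheory.Limits AlgebraicGeometry Opposite TopologicalSpace
open scoped TensorProduct

namespace K184.BcFlat

open Groth.Agent Groth.Agent.Ega3B K55 K55.KerAlg K56.SchMap K56.PMap
open Groth.Agent.CohqA.BaseChangeMod (IsBC isBC_iff_isBaseChange)

section Algebra

variable {A B : Type u} [CommRing A] [CommRing B] [Algebra A B]

/-- The tensor form of `IsBC`. -/
theorem exists_equiv_of_isBC {M N : Type u} [AddCommGroup M] [Module A M] [AddCommGroup N]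
    [Module B N] {m : M →+ N} (h : IsBC (algebraMap A B) m) :
    ∃ e : M ⊗[A] B ≃+ N, ∀ (x : M) (b : B), e (x ⊗ₜ b) = b • m x := by
  have h2 : IsBC (algebraMap A B) (TensorProduct.mk A B M 1).toAddMonoidHom :=
    (isBC_iff_isBaseChange (TensorProduct.mk A B M 1)).2 (TensorProduct.isBaseChange A M B)
  obtain ⟨e, he⟩ := h2.exists_equiv h
  refine ⟨(TensorProduct.comm A M B).toAddEquiv.trans e.toAddEquiv, fun x b => ?_⟩
  change e (b ⊗ₜ x) = b • m x
  have h3 : (b ⊗ₜ x : B ⊗[A] M) = b • ((1 : B) ⊗ₜ x) := by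
    rw [TensorProduct.smul_tmul', smul_eq_mul, mul_one]
  rw [h3, map_smul]
  congr 1
  exact he x

/-- A module which is universally injected into a flat module is flat. -/
theorem flat_of_injective {O Q : Type u} [AddCommGroup O] [Module A O] [AddCommGroup Q]
    [Module A Q] [Module.Flat A Q] (v : O →ₗ[A] Q)
    (h : ∀ (B : Type u) [CommRing B] [Algebra A B], Subsingleton (LinearMap.ker (v.baseChange B))) :
    Module.Flat A O := by
  have h1 : ∀ (N : Type u) [AddCommGroup N] [Module A N], Function.Injective (v.lTensor N) := by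
    intro N _ _
    letI : Module Aᵐᵒᵖ N := Module.compHom _ ((RingHom.id A).fromOpposite mul_comm)
    haveI : IsCentralScalar A N := ⟨fun r m => rfl⟩
    have h2 := h (TrivSqZeroExt A N)
    have h3 : Function.Injective (v.lTensor (TrivSqZeroExt A N)) := by
      rw [← LinearMap.ker_eq_bot, Submodule.eq_bot_iff]
      intro x hx
      have := h2.elim ⟨x, hx⟩ 0
      exact congrArg Subtype.val this
    let i : N →ₗ[A] TrivSqZeroExt A N := TrivSqZeroExt.inrHom A N
    let s : TrivSqZeroExt A N →ₗ[A] N := TrivSqZeroExt.sndHom A N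
    have hs : s ∘ₗ i = LinearMap.id := by ext; rfl
    have h4 : Function.Injective (i.rTensor O) := by
      apply Function.LeftInverse.injective (g := s.rTensor O)
      intro x
      rw [← LinearMap.comp_apply, ← LinearMap.rTensor_comp, hs, LinearMap.rTensor_id]
      rfl
    have h5 : (v.lTensor (TrivSqZeroExt A N)) ∘ₗ (i.rTensor O) = (i.rTensor Q) ∘ₗ (v.lTensor N) := by
      rw [LinearMap.lTensor_comp_rTensor, LinearMap.rTensor_comp_lTensor]
    have h6 : Function.Injective ⇑((i.rTensor Q) ∘ₗ (v.lTensor N)) := by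
      rw [← h5]
      exact h3.comp h4
    exact Function.Injective.of_comp h6
  rw [Module.Flat.iff_rTensor_preserves_injective_linearMap]
  intro N N' _ _ _ _ L hL
  have h2 : (L.rTensor Q) ∘ₗ (v.lTensor N) = (v.lTensor N') ∘ₗ (L.rTensor O) := by
    rw [LinearMap.lTensor_comp_rTensor, LinearMap.rTensor_comp_lTensor]
  have h3 : Function.Injective ⇑((v.lTensor N') ∘ₗ (L.rTensor O)) := by
    rw [← h2]
    exact (Module.Flat.rTensor_preserves_injective_linearMap L hL).comp (h1 N)
  exact Function.Injective.of_comp h3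

end Algebra

section Main

variable {A : Type u} [CommRing A] (X : Scheme.{u}) [X.Over (Spec (CommRingCat.of A))]
  [IsProper (X ↘ Spec (CommRingCat.of A))]
  [LocallyOfFinitePresentation (X ↘ Spec (CommRingCat.of A))] (F : X.Modules)
  (hF : CohB1.IsFP F) (hfl : FlatMod.IsFlatOver (X ↘ Spec (CommRingCat.of A)) F)

include hF hfl in
/-- Flat base change for the canonical map. -/
theorem isBC_pullMod (n : ℕ) {B : Type u} [CommRing B] [Algebra A B] [Module.Flat A B]
    {X' : Scheme.{u}} [X'.Over (Spec (CommRingCat.of B))] (j : X' ⟶ X)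
    (H : IsPullback j (X' ↘ Spec (CommRingCat.of B)) (X ↘ Spec (CommRingCat.of A))
      (Spec.map (CommRingCat.ofHom (algebraMap A B)))) :
    IsBC (algebraMap A B) (CohPull.pullMod j F n) := by
  obtain ⟨K, hK⟩ := Pack.exists_pack X F hF hfl
  obtain ⟨θ₀, h1, h2⟩ := hK n
  obtain ⟨θ, h3, h4⟩ := h2 B X' j _ H
  exact Aff.isBC_of_can rfl (K.u n) θ₀ h1 θ h3 _ h4 (can_bijective_of_flat_alg (K.u n) B)

/-- `H^n(–, F)` vanishes after all base changes. -/
def UnivVan (n : ℕ) : Prop :=
  ∀ (B : Type u) [CommRing B] [Algebra A B] (X' : Scheme.{u}) (j : X' ⟶ X)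
    (q : X' ⟶ Spec (CommRingCat.of B)) (_ : IsPullback j q (X ↘ Spec (CommRingCat.of A))
      (Spec.map (CommRingCat.ofHom (algebraMap A B)))),
    Subsingleton (Coh.HH X' ((Scheme.Modules.pullback j).obj F) n)

include hF hfl in
/-- Base change in the top degree for the canonical map. -/
theorem isBC_pullMod_top (n : ℕ) (hvan : UnivVan (A := A) X F (n + 1)) {B : Type u} [CommRing B]
    [Algebra A B] {X' : Scheme.{u}} [X'.Over (Spec (CommRingCat.of B))] (j : X' ⟶ X)
    (H : IsPullback j (X' ↘ Spec (CommRingCat.of B)) (X ↘ Spec (CommRingCat.of A))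
      (Spec.map (CommRingCat.ofHom (algebraMap A B)))) :
    IsBC (algebraMap A B) (CohPull.pullMod j F n) := by
  obtain ⟨K, hK⟩ := Pack.exists_pack X F hF hfl
  obtain ⟨θ₀, h1, h2⟩ := hK n
  obtain ⟨θ, h3, h4⟩ := h2 B X' j _ H
  have hfO : Module.Flat A (K.O (n + 1)) := by
    refine flat_of_injective (K.u (n + 1)) fun B' _ _ => ?_
    obtain ⟨θ₀', h1', h2'⟩ := hK (n + 1)
    obtain ⟨θ', -, -⟩ := h2' B' _ _ _ (IsPullback.of_hasPullback (X ↘ Spec (CommRingCat.of A))
      (Spec.map (CommRingCat.ofHom (algebraMap A B'))))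
    have h5 := hvan B' _ _ _ (IsPullback.of_hasPullback (X ↘ Spec (CommRingCat.of A))
      (Spec.map (CommRingCat.ofHom (algebraMap A B'))))
    exact θ'.symm.toEquiv.subsingleton
  exact Aff.isBC_of_can rfl (K.u n) θ₀ h1 θ h3 _ h4
    (can_bijective_of_flat B (K.exact n) (K.surj n))

include hF hfl in
/-- Flat base change, tensor form. -/
theorem exists_equiv (n : ℕ) {B : Type u} [CommRing B] [Algebra A B] [Module.Flat A B]
    {X' : Scheme.{u}} [X'.Over (Spec (CommRingCat.of B))] (j : X' ⟶ X)
    (H : IsPullback j (X' ↘ Spec (CommRingCat.of B)) (X ↘ Spec (CommRingCat.of A))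
      (Spec.map (CommRingCat.ofHom (algebraMap A B)))) :
    ∃ e : Coh.HH X F n ⊗[A] B ≃+ Coh.HH X' ((Scheme.Modules.pullback j).obj F) n,
      ∀ (x : Coh.HH X F n) (b : B), e (x ⊗ₜ b) = b • CohPull.pullMod j F n x :=
  exists_equiv_of_isBC (isBC_pullMod X F hF hfl n j H)

include hF hfl in
/-- Base change in the top degree, tensor form. -/
theorem exists_equiv_top (n : ℕ) (hvan : UnivVan (A := A) X F (n + 1)) {B : Type u} [CommRing B]
    [Algebra A B] {X' : Scheme.{u}} [X'.Over (Spec (CommRingCat.of B))] (j : X' ⟶ X)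
    (H : IsPullback j (X' ↘ Spec (CommRingCat.of B)) (X ↘ Spec (CommRingCat.of A))
      (Spec.map (CommRingCat.ofHom (algebraMap A B)))) :
    ∃ e : Coh.HH X F n ⊗[A] B ≃+ Coh.HH X' ((Scheme.Modules.pullback j).obj F) n,
      ∀ (x : Coh.HH X F n) (b : B), e (x ⊗ₜ b) = b • CohPull.pullMod j F n x :=
  exists_equiv_of_isBC (isBC_pullMod_top X F hF hfl n hvan j H)

include hF hfl in
/-- Finiteness over a Noetherian base. -/
theorem finite [IsNoetherianRing A] (n : ℕ) : Module.Finite A (Coh.HH X F n) := by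
  obtain ⟨K, hK⟩ := Pack.exists_pack X F hF hfl
  obtain ⟨θ₀, h1, -⟩ := hK n
  let e : Coh.HH X F n ≃ₗ[A] K.H n := { θ₀ with map_smul' := h1 }
  have : Module.Finite A (K.H n) := inferInstance
  exact Module.Finite.equiv e.symm

end Main

end K184.BcFlat
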