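import Groth.Agent.Coherent.K56.Horiz

/-!
# Functoriality of the pull-back on cohomology

`pullMod_smul`, `mapH_pullMod`, `pullMod_comp` for `CohPull.pullMod`.
-/

set_option autoImplicit false
universe u

open CategoryTheory CategoryTheory.Limits AlgebraicGeometry Opposite TopologicalSpace

namespace K184.BcFun

open Groth.Agent K56.SchMap K56.PMap

variable {X Y Z : Scheme.{u}}

theorem smul_aux (g : X ⟶ Y) (M : Y.Modules)
    (η : M ⟶ (Scheme.Modules.pushforward g).obj ((Scheme.Modules.pullback g).obj M))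
    (r : Coh.Γtop Y) (W : Y.Opens) (s : Γ(M, W)) :
    (show Γ((Scheme.Modules.pullback g).obj M, g ⁻¹ᵁ W) from
      η.app W ((show Γ(Y, W) from Coh.resTop Y (op W) r) • s)) =
    (show Γ(X, g ⁻¹ᵁ W) from
      Coh.resTop X (op (g ⁻¹ᵁ W)) (show Coh.Γtop X from g.appTop r)) •
        (show Γ((Scheme.Modules.pullback g).obj M, g ⁻¹ᵁ W) from η.app W s) := by
  refine (Scheme.Modules.Hom.app_smul η (show Γ(Y, W) from Coh.resTop Y (op W) r) s).trans ?_
  have h3 : (show Γ(X, g ⁻¹ᵁ W) from g.app W (show Γ(Y, W) from Coh.resTop Y (op W) r)) =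
      (show Γ(X, g ⁻¹ᵁ W) from
        Coh.resTop X (op (g ⁻¹ᵁ W)) (show Coh.Γtop X from g.appTop r)) :=
    ConcreteCategory.congr_hom (g.naturality (homOfLE (le_top : W ≤ ⊤)).op) r
  exact congrArg (fun a : Γ(X, g ⁻¹ᵁ W) =>
    a • (show Γ((Scheme.Modules.pullback g).obj M, g ⁻¹ᵁ W) from η.app W s)) h3

/-- `pullMod` is semilinear. -/
theorem pullMod_smul (g : X ⟶ Y) (M : Y.Modules) (n : ℕ) (r : Coh.Γtop Y) (x : Coh.HH Y M n) :
    CohPull.pullMod g M n (r • x) =
      (show Coh.Γtop X from g.appTop r) • CohPull.pullMod g M n x := by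
  let η := (Scheme.Modules.pullbackPushforwardAdjunction g).unit.app M
  have h1 := pm_map_left g.base (G' := Coh.toAb M) (Coh.smulAb M r)
    (H := Coh.toAb ((Scheme.Modules.pullback g).obj M))
    ((SheafOfModules.toSheaf Y.ringCatSheaf).map η) n x
  have h2 := pm_map_right g.base (G := Coh.toAb M)
    (H := Coh.toAb ((Scheme.Modules.pullback g).obj M))
    ((SheafOfModules.toSheaf Y.ringCatSheaf).map η)
    (Coh.smulAb ((Scheme.Modules.pullback g).obj M) (show Coh.Γtop X from g.appTop r)) n x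
  refine h1.symm.trans (Eq.trans ?_ h2)
  refine congrArg (fun t => pm g.base (G := Coh.toAb M)
    (H := Coh.toAb ((Scheme.Modules.pullback g).obj M)) t n x) ?_
  apply Sheaf.hom_ext
  ext W s
  exact smul_aux g M η r W.unop s

/-- `pullMod` is natural in the module. -/
theorem mapH_pullMod (g : X ⟶ Y) {M N : Y.Modules} (φ : M ⟶ N) (n : ℕ) (x : Coh.HH Y M n) :
    CohPull.pullMod g N n (CohPull.mapH φ n x) =
      CohPull.mapH ((Scheme.Modules.pullback g).map φ) n (CohPull.pullMod g M n x) := by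
  let η := (Scheme.Modules.pullbackPushforwardAdjunction g).unit
  have h1 := pm_map_left g.base (G' := Coh.toAb M) ((SheafOfModules.toSheaf Y.ringCatSheaf).map φ)
    (H := Coh.toAb ((Scheme.Modules.pullback g).obj N))
    ((SheafOfModules.toSheaf Y.ringCatSheaf).map (η.app N)) n x
  have h2 := pm_map_right g.base (G := Coh.toAb M)
    (H := Coh.toAb ((Scheme.Modules.pullback g).obj M))
    ((SheafOfModules.toSheaf Y.ringCatSheaf).map (η.app M))
    ((SheafOfModules.toSheaf X.ringCatSheaf).map ((Scheme.Modules.pullback g).map φ)) n x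
  refine h1.symm.trans (Eq.trans ?_ h2)
  refine congrArg (fun t => pm g.base (G := Coh.toAb M)
    (H := Coh.toAb ((Scheme.Modules.pullback g).obj N)) t n x) ?_
  exact ((SheafOfModules.toSheaf Y.ringCatSheaf).map_comp _ _).symm.trans
    ((congrArg (SheafOfModules.toSheaf Y.ringCatSheaf).map (η.naturality φ)).trans
      ((SheafOfModules.toSheaf Y.ringCatSheaf).map_comp _ _))

/-- `pullMod` along a composition. -/
theorem pullMod_comp (f : X ⟶ Y) (g : Y ⟶ Z) (M : Z.Modules) (n : ℕ) (x : Coh.HH Z M n) :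
    CohPull.mapH ((Scheme.Modules.pullbackComp f g).hom.app M) n
      (CohPull.pullMod f ((Scheme.Modules.pullback g).obj M) n (CohPull.pullMod g M n x)) =
    CohPull.pullMod (f ≫ g) M n x := by
  let ηf := (Scheme.Modules.pullbackPushforwardAdjunction f).unit
  let ηg := (Scheme.Modules.pullbackPushforwardAdjunction g).unit
  have h1 := pm_comp f.base g.base (M := Coh.toAb M)
    (N := Coh.toAb ((Scheme.Modules.pullback g).obj M))
    (P := Coh.toAb ((Scheme.Modules.pullback f).obj ((Scheme.Modules.pullback g).obj M)))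
    ((SheafOfModules.toSheaf Z.ringCatSheaf).map (ηg.app M))
    ((SheafOfModules.toSheaf Y.ringCatSheaf).map (ηf.app ((Scheme.Modules.pullback g).obj M))) n x
  have h2 := pm_map_right (f ≫ g).base (G := Coh.toAb M)
    (H := Coh.toAb ((Scheme.Modules.pullback f).obj ((Scheme.Modules.pullback g).obj M)))
    ((SheafOfModules.toSheaf Z.ringCatSheaf).map (ηg.app M) ≫ (CohTop.push g.base).map
      ((SheafOfModules.toSheaf Y.ringCatSheaf).map (ηf.app ((Scheme.Modules.pullback g).obj M))))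
    ((SheafOfModules.toSheaf X.ringCatSheaf).map ((Scheme.Modules.pullbackComp f g).hom.app M)) n x
  refine (congrArg (CohPull.mapH ((Scheme.Modules.pullbackComp f g).hom.app M) n) h1).trans
    (h2.symm.trans ?_)
  refine congrArg (fun t => pm (f ≫ g).base (G := Coh.toAb M)
    (H := Coh.toAb ((Scheme.Modules.pullback (f ≫ g)).obj M)) t n x) ?_
  apply Sheaf.hom_ext
  ext W s
  have e1 := Fga.SecComp.sec_comp f g M (le_refl (g ⁻¹ᵁ W.unop)) (le_refl (f ⁻¹ᵁ (g ⁻¹ᵁ W.unop)))
    (le_refl ((f ≫ g) ⁻¹ᵁ W.unop)) s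
  have e2 := unit_app_eq (f ≫ g) M W.unop s
  have e3 := unit_app_eq g M W.unop s
  have e4 := unit_app_eq f ((Scheme.Modules.pullback g).obj M) (g ⁻¹ᵁ W.unop)
    (VarietyB.PullSec.sec g M (le_refl (g ⁻¹ᵁ W.unop)) s)
  refine Eq.trans ?_ (e1.trans e2.symm)
  refine congrArg (((Scheme.Modules.pullbackComp f g).hom.app M).app (f ⁻¹ᵁ (g ⁻¹ᵁ W.unop))) ?_
  refine Eq.trans ?_ e4
  exact congrArg (((Scheme.Modules.pullbackPushforwardAdjunction f).unit.app
    ((Scheme.Modules.pullback g).obj M)).app (g ⁻¹ᵁ W.unop)) e3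

end K184.BcFun
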