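import Groth.Agent.DeRhamSh.K184.BcFlat
import Groth.Agent.DeRhamSh.K184.BcFun

/-!
# Naturality of the tensor form of base change
-/

set_option autoImplicit false
universe u

open CategoryTheory CategoryTheory.Limits AlgebraicGeometry Opposite TopologicalSpace
open scoped TensorProduct

namespace K184.BcNat

open Groth.Agent K55

variable {X : Scheme.{u}}

theorem mapH_smul {M N : X.Modules} (φ : M ⟶ N) (n : ℕ) (r : Coh.Γtop X) (x : Coh.HH X M n) :
    CohPull.mapH φ n (r • x) = r • CohPull.mapH φ n x :=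
  HX.map_smul (M := M) (N := N) φ n r x

theorem toGlobal_comp {B B' : Type u} [CommRing B] [CommRing B'] (h : B →+* B')
    {X' X'' : Scheme.{u}} (k : X'' ⟶ X') (q : X' ⟶ Spec (CommRingCat.of B))
    (q' : X'' ⟶ Spec (CommRingCat.of B')) (w : k ≫ q = q' ≫ Spec.map (CommRingCat.ofHom h)) (b : B) :
    (show Coh.Γtop X'' from k.appTop (show Γ(X', ⊤) from Coh.toGlobal q b)) =
      Coh.toGlobal q' (h b) := by
  have h1 : (Scheme.ΓSpecIso (CommRingCat.of B)).inv ≫ q.appTop ≫ k.appTop =
      CommRingCat.ofHom h ≫ (Scheme.ΓSpecIso (CommRingCat.of B')).inv ≫ q'.appTop := by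
    rw [← Scheme.Hom.comp_appTop, w, Scheme.Hom.comp_appTop, ← Category.assoc,
      ← Scheme.ΓSpecIso_inv_naturality, Category.assoc]
  exact ConcreteCategory.congr_hom h1 b

/-- Naturality in the algebra. -/
theorem natural {A B B' : Type u} [CommRing A] [CommRing B] [CommRing B'] [Algebra A B]
    [Algebra A B'] (h : B →ₐ[A] B') [X.Over (Spec (CommRingCat.of A))] (F : X.Modules) (n : ℕ)
    {X' X'' : Scheme.{u}} [X'.Over (Spec (CommRingCat.of B))] [X''.Over (Spec (CommRingCat.of B'))]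
    (j : X' ⟶ X) (k : X'' ⟶ X')
    (w : k ≫ (X' ↘ Spec (CommRingCat.of B)) =
      (X'' ↘ Spec (CommRingCat.of B')) ≫ Spec.map (CommRingCat.ofHom h.toRingHom))
    (e : Coh.HH X F n ⊗[A] B ≃+ Coh.HH X' ((Scheme.Modules.pullback j).obj F) n)
    (he : ∀ (x : Coh.HH X F n) (b : B), e (x ⊗ₜ b) = b • CohPull.pullMod j F n x)
    (e' : Coh.HH X F n ⊗[A] B' ≃+ Coh.HH X'' ((Scheme.Modules.pullback (k ≫ j)).obj F) n)
    (he' : ∀ (x : Coh.HH X F n) (b : B'), e' (x ⊗ₜ b) = b • CohPull.pullMod (k ≫ j) F n x)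
    (t : Coh.HH X F n ⊗[A] B) :
    e' (h.toLinearMap.lTensor _ t) = CohPull.mapH ((Scheme.Modules.pullbackComp k j).hom.app F) n
      (CohPull.pullMod k ((Scheme.Modules.pullback j).obj F) n (e t)) := by
  induction t with
  | zero => rw [map_zero, map_zero, map_zero, map_zero, map_zero]
  | add x y hx hy => rw [map_add, map_add, map_add, map_add, map_add, hx, hy]
  | tmul x b =>
    rw [LinearMap.lTensor_tmul, he, ]
    refine (he' x (h b)).trans ?_
    have h1 := BcFun.pullMod_smul k ((Scheme.Modules.pullback j).obj F) n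
      (Coh.toGlobal (X' ↘ Spec (CommRingCat.of B)) b) (CohPull.pullMod j F n x)
    have h2 : CohPull.pullMod k ((Scheme.Modules.pullback j).obj F) n
        (b • CohPull.pullMod j F n x) = _ := h1
    rw [h2, mapH_smul, BcFun.pullMod_comp]
    have h3 := toGlobal_comp h.toRingHom k _ _ w b
    exact congrArg (fun r : Coh.Γtop X'' => r • CohPull.pullMod (k ≫ j) F n x) h3.symm

end K184.BcNat
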