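import Groth.Agent.DeRhamSh.K184.BcNat

/-!
# The transition maps of pulled back modules, as maps to the direct image

`psi g w F : toAb (j^*F) ⟶ g_* toAb (j'^*F)` for `g ≫ j = j'`, its effect on cohomology
(`K56.PMap.pm`), linearity, compatibility with the pull-back of classes, and the resulting
functoriality of the tensor form of base change.
-/

set_option autoImplicit false
universe u

open CategoryTheory CategoryTheory.Limits AlgebraicGeometry Opposite TopologicalSpace
open scoped TensorProduct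

namespace K184.BcPm

open Groth.Agent K55 K56.PMap K56.SchMap

variable {X X₁ X₂ X₃ : Scheme.{u}}

/-- The underlying map of the unit. -/
noncomputable def unitAb (g : X₂ ⟶ X₁) (M : X₁.Modules) :
    Coh.toAb M ⟶ (CohTop.push g.base).obj (Coh.toAb ((Scheme.Modules.pullback g).obj M)) :=
  (SheafOfModules.toSheaf X₁.ringCatSheaf).map
    ((Scheme.Modules.pullbackPushforwardAdjunction g).unit.app M)

theorem pm_unitAb (g : X₂ ⟶ X₁) (M : X₁.Modules) (n : ℕ) (y : Coh.HH X₁ M n) :
    pm g.base (unitAb g M) n y = CohPull.pullMod g M n y := rfl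

/-- The comparison `g^* j^* F ⟶ j'^* F`. -/
noncomputable def cmp (g : X₂ ⟶ X₁) {j : X₁ ⟶ X} {j' : X₂ ⟶ X} (w : g ≫ j = j') (F : X.Modules) :
    (Scheme.Modules.pullback g).obj ((Scheme.Modules.pullback j).obj F) ⟶
      (Scheme.Modules.pullback j').obj F :=
  (Scheme.Modules.pullbackComp g j).hom.app F ≫ (Scheme.Modules.pullbackCongr w).hom.app F

/-- The map `j^*F ⟶ g_* j'^*F` on abelian sheaves. -/
noncomputable def psi (g : X₂ ⟶ X₁) {j : X₁ ⟶ X} {j' : X₂ ⟶ X} (w : g ≫ j = j') (F : X.Modules) :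
    Coh.toAb ((Scheme.Modules.pullback j).obj F) ⟶
      (CohTop.push g.base).obj (Coh.toAb ((Scheme.Modules.pullback j').obj F)) :=
  unitAb g ((Scheme.Modules.pullback j).obj F) ≫ (CohTop.push g.base).map
    ((SheafOfModules.toSheaf X₂.ringCatSheaf).map (cmp g w F))

theorem pm_psi_eq (g : X₂ ⟶ X₁) {j : X₁ ⟶ X} {j' : X₂ ⟶ X} (w : g ≫ j = j') (F : X.Modules) (n : ℕ)
    (y : Coh.HH X₁ ((Scheme.Modules.pullback j).obj F) n) :
    pm g.base (psi g w F) n y =
      CohPull.mapH (cmp g w F) n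
        (CohPull.pullMod g ((Scheme.Modules.pullback j).obj F) n y) :=
  pm_map_right g.base (unitAb g ((Scheme.Modules.pullback j).obj F))
    ((SheafOfModules.toSheaf X₂.ringCatSheaf).map (cmp g w F)) n y

/-- Linearity. -/
theorem pm_psi_smul (g : X₂ ⟶ X₁) {j : X₁ ⟶ X} {j' : X₂ ⟶ X} (w : g ≫ j = j') (F : X.Modules) (n : ℕ)
    (r : Coh.Γtop X₁) (y : Coh.HH X₁ ((Scheme.Modules.pullback j).obj F) n) :
    pm g.base (psi g w F) n (r • y) =
      (show Coh.HH X₂ ((Scheme.Modules.pullback j').obj F) n from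
        (show Coh.Γtop X₂ from g.appTop r) • (show Coh.HH X₂ ((Scheme.Modules.pullback j').obj F) n from
          pm g.base (psi g w F) n y)) := by
  rw [pm_psi_eq, BcFun.pullMod_smul, BcNat.mapH_smul]
  congr 1
  exact (pm_psi_eq g w F n y).symm

/-- Compatibility with the pull-back of classes. -/
theorem pm_psi_pullMod (g : X₂ ⟶ X₁) {j : X₁ ⟶ X} {j' : X₂ ⟶ X} (w : g ≫ j = j') (F : X.Modules)
    (n : ℕ) (x : Coh.HH X F n) :
    pm g.base (psi g w F) n
      (CohPull.pullMod j F n x) = CohPull.pullMod j' F n x := by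
  subst w
  rw [pm_psi_eq]
  have h1 : (Scheme.Modules.pullbackCongr (rfl : g ≫ j = g ≫ j)).hom.app F = 𝟙 _ := by
    simp [Scheme.Modules.pullbackCongr]
  rw [cmp, h1, Category.comp_id]
  exact BcFun.pullMod_comp g j F n x

end K184.BcPm
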