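import Groth.Agent.DeRhamSh.K184.BcPm
import Groth.Agent.DeRhamSh.K644.Fr

/-!
# Pull-back of generalized fraction classes of pulled back sections

`pm_psi_fv`: for `g ≫ j = j'`, the transition map `BcPm.psi` sends the class of `j^* s / t` to the class of
`j'^* s / g^♯ t`.
-/

set_option autoImplicit false
universe u

open CategoryTheory CategoryTheory.Limits AlgebraicGeometry Opposite TopologicalSpace

namespace K184.BcPsi

open Groth.Agent Groth.Agent.VarietyB.PullSec K56.PMap K644.Fr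

variable {X X₁ X₂ : Scheme.{u}}

/-- The transition map as a map of modules. -/
noncomputable def psiM (g : X₂ ⟶ X₁) {j : X₁ ⟶ X} {j' : X₂ ⟶ X} (w : g ≫ j = j') (F : X.Modules) :
    (Scheme.Modules.pullback j).obj F ⟶
      (Scheme.Modules.pushforward g).obj ((Scheme.Modules.pullback j').obj F) :=
  (Scheme.Modules.pullbackPushforwardAdjunction g).unit.app ((Scheme.Modules.pullback j).obj F) ≫
    (Scheme.Modules.pushforward g).map (BcPm.cmp g w F)

/-- Functoriality on the right, for module maps. -/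
theorem pm_comp_pushforward_map (g : X₂ ⟶ X₁) {M : X₁.Modules} {N N' : X₂.Modules}
    (a : M ⟶ (Scheme.Modules.pushforward g).obj N) (b : N ⟶ N')
    (n : ℕ) (x : Coh.HH X₁ M n) :
    pm g.base (G := Coh.toAb M) (H := Coh.toAb N')
      ((SheafOfModules.toSheaf X₁.ringCatSheaf).map (a ≫ (Scheme.Modules.pushforward g).map b)) n x =
    CohPull.mapH b n (pm g.base (G := Coh.toAb M) (H := Coh.toAb N)
      ((SheafOfModules.toSheaf X₁.ringCatSheaf).map a) n x) := by
  refine Eq.trans ?_ (pm_map_right g.base (G := Coh.toAb M) (H := Coh.toAb N) (H' := Coh.toAb N')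
    ((SheafOfModules.toSheaf X₁.ringCatSheaf).map a)
    ((SheafOfModules.toSheaf X₂.ringCatSheaf).map b) n x)
  refine congrArg (fun t => pm g.base (G := Coh.toAb M) (H := Coh.toAb N') t n x) ?_
  apply Sheaf.hom_ext
  ext W s
  rfl

theorem pm_psi_eq (g : X₂ ⟶ X₁) {j : X₁ ⟶ X} {j' : X₂ ⟶ X} (w : g ≫ j = j') (F : X.Modules) (n : ℕ)
    (x : Coh.HH X₁ ((Scheme.Modules.pullback j).obj F) n) :
    pm g.base (BcPm.psi g w F) n x =
      pm g.base (G := Coh.toAb ((Scheme.Modules.pullback j).obj F))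
        (H := Coh.toAb ((Scheme.Modules.pullback j').obj F))
        ((SheafOfModules.toSheaf X₁.ringCatSheaf).map (psiM g w F)) n x :=
  (BcPm.pm_psi_eq g w F n x).trans (pm_comp_pushforward_map g
    ((Scheme.Modules.pullbackPushforwardAdjunction g).unit.app ((Scheme.Modules.pullback j).obj F))
    (BcPm.cmp g w F) n x).symm

/-- On pulled back sections. -/
theorem psiM_sec (g : X₂ ⟶ X₁) {j : X₁ ⟶ X} {j' : X₂ ⟶ X} (w : g ≫ j = j') (F : X.Modules) {V : X.Opens}
    {O : X₁.Opens} {O' : X₂.Opens} (e : O ≤ j ⁻¹ᵁ V) (hO : O' ≤ g ⁻¹ᵁ O) (e' : O' ≤ j' ⁻¹ᵁ V) (s : Γ(F, V)) :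
    mr ((Scheme.Modules.pullback j').obj F) hO
      (show Γ((Scheme.Modules.pullback j').obj F, g ⁻¹ᵁ O) from (psiM g w F).app O (sec j F e s)) =
      sec j' F e' s := by
  subst w
  have h1 : mr ((Scheme.Modules.pullback (g ≫ j)).obj F) hO
      (show Γ((Scheme.Modules.pullback (g ≫ j)).obj F, g ⁻¹ᵁ O) from (psiM g rfl F).app O (sec j F e s)) =
      (BcPm.cmp g rfl F).app O' (sec g ((Scheme.Modules.pullback j).obj F) hO (sec j F e s)) :=
    (ConcreteCategory.congr_hom ((BcPm.cmp g rfl F).mapPresheaf.naturality (homOfLE hO).op)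
      (((Scheme.Modules.pullbackPushforwardAdjunction g).unit.app ((Scheme.Modules.pullback j).obj F)).app O
        (sec j F e s))).symm
  rw [h1]
  have h2 := Fga.SecComp.sec_comp g j F e hO e' s
  have h3 := Fga.SecComp.sec_congr (rfl : g ≫ j = g ≫ j) F e' e' s
  exact (congrArg (((Scheme.Modules.pullbackCongr (rfl : g ≫ j = g ≫ j)).hom.app F).app O') h2).trans h3

/-- **Pull-back of the class of a pulled back section.** -/
theorem pm_psi_fv {n : ℕ} (g : X₂ ⟶ X₁) {j : X₁ ⟶ X} {j' : X₂ ⟶ X} (w : g ≫ j = j') (F : X.Modules)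
    {O N : X₁.Opens} {t : Fin n → Γ(X₁, O)} (h : Valid O N t) {O₁ N₁ : X₂.Opens} {t₁ : Fin n → Γ(X₂, O₁)}
    (h' : Valid O₁ N₁ t₁) (hO : O₁ ≤ g ⁻¹ᵁ O) (hN : N₁ ≤ g ⁻¹ᵁ N)
    (ht : ∀ i, t₁ i = rr hO (g.app O (t i))) {V : X.Opens} (e : O ≤ j ⁻¹ᵁ V) (e' : O₁ ≤ j' ⁻¹ᵁ V) (s : Γ(F, V)) :
    pm g.base (BcPm.psi g w F) n (fv h ((Scheme.Modules.pullback j).obj F) (sec j F e s)) =
      fv h' ((Scheme.Modules.pullback j').obj F) (sec j' F e' s) := by
  refine (pm_psi_eq g w F n _).trans ?_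
  refine (pm_fv g (psiM g w F) h h' hO hN (fun _ => 1) (fun i => by rw [one_mul]; exact ht i) _).trans ?_
  rw [Finset.prod_const_one, one_smul, psiM_sec g w F e hO e' s]

end K184.BcPsi
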