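import Groth.Agent.S0027
import Groth.Agent.Localalg.LichtVan
import Groth.Agent.Flat2G.NoethVanish
import Groth.Agent.Sga4B.DiagM8
import Groth.Agent.Sga4B.SmoothNormal
import Groth.Agent.Ega1.GenPts

/-!
# Vanishing of the top cohomology over an Artinian local base

* `van`: `W` separated of finite type over an Artinian local ring, of dimension at most `n`, no
  integral closed subscheme of dimension `n` proper over the base: `H^n(W, M) = 0` for `M` coherent;
* `main`: `f : X ⟶ Spec A` proper and smooth of relative dimension `n = e + 1`, `X` connected, `U`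
  an open subscheme different from `X`: `H^n(U, M) = 0` for `M` quasi-coherent.
-/

set_option autoImplicit false
universe u

open CategoryTheory CategoryTheory.Limits AlgebraicGeometry TopologicalSpace

namespace K184.SecVan

open Groth.Agent

section Art

variable {A : Type u} [CommRing A] [IsLocalRing A] [IsArtinianRing A]

theorem isNilpotent_of_mem {a : A} (ha : a ∈ IsLocalRing.maximalIdeal A) : IsNilpotent a := by
  obtain ⟨n, hn⟩ := IsArtinianRing.isNilpotent_jacobson_bot (R := A)
  rw [IsLocalRing.jacobson_eq_maximalIdeal ⊥ bot_ne_top] at hn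
  refine ⟨n, ?_⟩
  have := Ideal.pow_mem_pow ha n
  rw [hn] at this
  simpa using this

/-- A reduced scheme over an Artinian local ring lives over the residue field. -/
theorem exists_residue {Z : Scheme.{u}} [IsReduced Z] (g : Z ⟶ Spec (CommRingCat.of A)) :
    ∃ g₀ : Z ⟶ Spec (CommRingCat.of (IsLocalRing.ResidueField A)),
      g₀ ≫ Spec.map (CommRingCat.ofHom (IsLocalRing.residue A)) = g := by
  have hI : IsLocalRing.maximalIdeal A ≤
      RingHom.ker ((Scheme.ΓSpecIso (CommRingCat.of A)).inv ≫ g.appTop).hom := by
    intro a ha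
    exact ((isNilpotent_of_mem ha).map _).eq_zero
  exact ⟨g.liftQuotient _ hI, g.liftQuotient_comp _ hI⟩

instance isClosedImmersion_residue :
    IsClosedImmersion (Spec.map (CommRingCat.ofHom (IsLocalRing.residue A))) :=
  IsClosedImmersion.spec_of_surjective _ Ideal.Quotient.mk_surjective

omit [IsLocalRing A] in
theorem isNoetherian {W : Scheme.{u}} (g : W ⟶ Spec (CommRingCat.of A)) [LocallyOfFiniteType g]
    [QuasiCompact g] : IsNoetherian W := by
  have h1 : IsLocallyNoetherian W := LocallyOfFiniteType.isLocallyNoetherian g
  have h2 : CompactSpace W := QuasiCompact.compactSpace_of_compactSpace g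
  exact { }

/-- The top cohomology of coherent modules vanishes if no integral closed subscheme of maximal
dimension is proper over the base. -/
theorem van {W : Scheme.{u}} (g : W ⟶ Spec (CommRingCat.of A)) [IsSeparated g]
    [LocallyOfFiniteType g] [QuasiCompact g] [Nonempty W] (n : ℕ)
    (hd : topologicalKrullDim W ≤ n)
    (h : ∀ (Z : Scheme.{u}) (i : Z ⟶ W) [IsClosedImmersion i] [IsIntegral Z],
      topologicalKrullDim Z = n → ¬ IsProper (i ≫ g)) (M : W.Modules) (hM : Coh.IsCoh M) :
    Subsingleton (Coh.HH W M n) := by
  have hN : IsNoetherian W := isNoetherian g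
  refine S0027.result W (fun M => Subsingleton (Coh.HH W M n)) ?_ ?_ ?_ M hM
  · rintro M N ⟨e⟩ hMs
    exact CohqA.TopVan.subsingleton_of_iso e.symm n hMs
  · intro S hS _ _ _ h₁ h₃
    exact CohqB.HLin.HH_subsingleton₂ hS n h₁ h₃
  · intro Z i hi hZ I ι hι hI
    obtain ⟨e⟩ := Localalg.LichtAsm.nonempty_HH_push i I n
    have hle : topologicalKrullDim Z ≤ n :=
      (i.isClosedEmbedding.isInducing.topologicalKrullDim_le).trans hd
    have hZN : IsNoetherian Z := isNoetherian (i ≫ g)
    have hZs : Subsingleton (Coh.HH Z I n) := by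
      rcases hle.lt_or_eq with hlt | heq
      · exact Localalg.LichtAsm.subsingleton_of_dim_lt hlt I
      · obtain ⟨g₀, hg₀⟩ := exists_residue (i ≫ g)
        have h1 : IsSeparated (g₀ ≫ Spec.map (CommRingCat.ofHom (IsLocalRing.residue A))) := by
          rw [hg₀]; infer_instance
        have h2 : LocallyOfFiniteType
            (g₀ ≫ Spec.map (CommRingCat.ofHom (IsLocalRing.residue A))) := by
          rw [hg₀]; infer_instance
        have h3 : QuasiCompact g₀ := inferInstance
        have h4 : IsSeparated g₀ := IsSeparated.of_comp g₀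
          (Spec.map (CommRingCat.ofHom (IsLocalRing.residue A)))
        have h5 : LocallyOfFiniteType g₀ := locallyOfFiniteType_of_comp g₀
          (Spec.map (CommRingCat.ofHom (IsLocalRing.residue A)))
        refine Localalg.LichtVan.vanishing g₀ n heq (fun hp => h Z i heq ?_) I hI
        rw [← hg₀]
        infer_instance
    exact e.toEquiv.subsingleton

/-- A nonempty smooth connected scheme over an Artinian local ring is irreducible. -/
theorem irreducibleSpace {X : Scheme.{u}} (f : X ⟶ Spec (CommRingCat.of A)) (n : ℕ)
    [SmoothOfRelativeDimension n f] [ConnectedSpace X] :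
    IrreducibleSpace X ∧ topologicalKrullDim X ≤ n := by
  let r := Spec.map (CommRingCat.ofHom (IsLocalRing.residue A))
  let X₀ := pullback f r
  let j : X₀ ⟶ X := pullback.fst f r
  let f₀ : X₀ ⟶ Spec (CommRingCat.of (IsLocalRing.ResidueField A)) := pullback.snd f r
  have h0 := smoothOfRelativeDimension_isStableUnderBaseChange.{u} n
  have h1 : SmoothOfRelativeDimension n f₀ :=
    MorphismProperty.pullback_snd (P := @SmoothOfRelativeDimension n) _ _ ‹_›
  have h2 : Surjective r := by
    have : Subsingleton (PrimeSpectrum A) := inferInstance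
    refine ⟨fun y => ⟨IsLocalRing.closedPoint _, ?_⟩⟩
    exact Subsingleton.elim (α := PrimeSpectrum A) _ _
  have h3 : Surjective j := inferInstance
  have h4 : IsClosedImmersion j := inferInstance
  let e : X₀ ≃ₜ X := (isHomeomorph_iff_isEmbedding_surjective.2
    ⟨j.isClosedEmbedding.isEmbedding, j.surjective⟩).homeomorph
  have h5 : ConnectedSpace X₀ := e.symm.surjective.connectedSpace e.symm.continuous
  have h6 : Smooth f₀ := SmoothOfRelativeDimension.smooth n f₀
  have h7 : IsLocallyNoetherian X₀ := LocallyOfFiniteType.isLocallyNoetherian f₀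
  have h8 : IsIntegral X₀ := by
    rw [Ega1.GenPts.isIntegral_iff]
    exact ⟨inferInstance, fun x => (Sga4B.SmoothNormal.isNormalScheme_of_smooth f₀ x).1⟩
  have h9 : IrreducibleSpace X₀ := inferInstance
  refine ⟨?_, ?_⟩
  · have h10 := (IrreducibleSpace.isIrreducible_univ X₀).image e e.continuous.continuousOn
    rw [Set.image_univ, e.surjective.range_eq] at h10
    exact (irreducibleSpace_def X).2 h10
  · rw [← e.isHomeomorph.topologicalKrullDim_eq e]
    exact Sga4B.DiagM8.topologicalKrullDim_le _ n f₀

/-- The cohomology of a proper open part of a connected, proper and smooth scheme over an Artinian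
local ring vanishes in the degree of the relative dimension. -/
theorem main {X : Scheme.{u}} (f : X ⟶ Spec (CommRingCat.of A)) [IsProper f] (e : ℕ)
    [SmoothOfRelativeDimension (e + 1) f] [ConnectedSpace X] {U : Scheme.{u}} (j : U ⟶ X)
    [IsOpenImmersion j] (hj : Set.range j ≠ Set.univ) (M : U.Modules) (hM : Coh.IsQCoh M) :
    Subsingleton (Coh.HH U M (e + 1)) := by
  obtain ⟨hirr, hdim⟩ := irreducibleSpace f (e + 1)
  have hX : IsNoetherian X := isNoetherian f
  have hU : IsNoetherian U := by
    have h1 : IsLocallyNoetherian U := isLocallyNoetherian_of_isOpenImmersion j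
    have h2 : CompactSpace U := by
      have : NoetherianSpace U := j.isOpenEmbedding.isInducing.noetherianSpace
      infer_instance
    exact { }
  have hqc : QuasiCompact j := inferInstance
  have hdU : topologicalKrullDim U ≤ (e + 1 : ℕ) :=
    (j.isOpenEmbedding.isInducing.topologicalKrullDim_le).trans hdim
  have hXs : X.IsSeparated := ⟨by
    have : IsSeparated (f ≫ terminal.from _) := inferInstance
    rwa [Subsingleton.elim (terminal.from X) (f ≫ terminal.from _)]⟩
  have hUs : U.IsSeparated := ⟨by
    have : IsSeparated (j ≫ terminal.from _) := inferInstance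
    rwa [Subsingleton.elim (terminal.from U) (j ≫ terminal.from _)]⟩
  refine Flat2G.NoethVanish.subsingleton_HH_of_isCoh e (fun G hG => ?_) M hM
  rcases isEmpty_or_nonempty U with hE | hne
  · have : NoetherianSpace U.toTopCat := inferInstanceAs (NoetherianSpace U)
    refine S0458.result (X := U.toTopCat) e ?_ (Coh.toAb G) (e + 1) (Nat.lt_succ_self e)
    have h1 : topologicalKrullDim U = ⊥ := by
      have : IsEmpty (IrreducibleCloseds U) :=
        ⟨fun s => s.isIrreducible.nonempty.elim fun x _ => IsEmpty.elim hE x⟩
      exact Order.krullDim_eq_bot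
    exact h1.le.trans bot_le
  · refine van (j ≫ f) (e + 1) hdU (fun Z i _ _ hZ hp => ?_) G hG
    have h1 : IsProper (i ≫ j) := by
      have : IsProper ((i ≫ j) ≫ f) := by rwa [Category.assoc]
      exact IsProper.of_comp (i ≫ j) f
    have h2 : IsClosed (Set.range (i ≫ j)) := (i ≫ j).isClosedMap.isClosed_range
    have h3 : Topology.IsInducing (i ≫ j) := by
      rw [Scheme.Hom.comp_base]
      exact j.isOpenEmbedding.isInducing.comp i.isClosedEmbedding.isInducing
    have h4 : topologicalKrullDim Z < (e + 1 : ℕ) := by
      refine EtpbcA.CharPDim.topologicalKrullDim_lt_of_forall (i ≫ j) h3 (fun z => ?_) _ hdim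
      refine ⟨genericPoint X, genericPoint_specializes _, fun h => hj ?_⟩
      rw [Set.eq_univ_iff_forall]
      intro x
      have h5 : genericPoint X ∈ Set.range (i ≫ j) := ⟨z, h.symm⟩
      obtain ⟨y, hy⟩ := (genericPoint_specializes x).mem_closed h2 h5
      exact ⟨i y, by rw [← hy]; rfl⟩
    exact absurd hZ h4.ne

end Art

end K184.SecVan
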