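import Groth.Agent.DeRhamSh.K184.ConstAlg
import Groth.Agent.DeRhamSh.K184.SecVan
import Groth.Agent.Fga.GrSysBC

/-!
# Constancy of compatible families of sections on a proper scheme over an Artinian local ring

`const`: `f : X ⟶ Spec A` proper and smooth, `A` Artinian local, `X` connected, with a section; `N` a
finite `A`-module, `𝒱` a basis of affine opens of `X`: a family `u V ∈ N ⊗ Γ(X, V)`, `V ∈ 𝒱`,
compatible with restrictions is of the form `ν ⊗ 1` for some `ν ∈ N`.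
-/

set_option autoImplicit false
universe u

open CategoryTheory CategoryTheory.Limits AlgebraicGeometry TopologicalSpace Opposite
open scoped TensorProduct

namespace K184.Const

open Groth.Agent

/-- The structure map `A → Γ(X, V)` of a scheme over `Spec A`. -/
noncomputable def str {A : Type u} [CommRing A] {X : Scheme.{u}} (f : X ⟶ Spec (CommRingCat.of A))
    (V : X.Opens) : A →+* Γ(X, V) :=
  (f.appLE ⊤ V le_top).hom.comp (Scheme.ΓSpecIso (CommRingCat.of A)).inv.hom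

section

variable {A : Type u} [CommRing A] {X : Scheme.{u}} (f : X ⟶ Spec (CommRingCat.of A))

theorem ofHom_str (V : X.Opens) : CommRingCat.ofHom (str f V) =
    (Scheme.ΓSpecIso (CommRingCat.of A)).inv ≫ f.appLE ⊤ V le_top := rfl

theorem res_str {V W : X.Opens} (h : W ≤ V) (a : A) :
    X.presheaf.map (homOfLE h).op (str f V a) = str f W a := by
  have h1 : f.appLE ⊤ V le_top ≫ X.presheaf.map (homOfLE h).op = f.appLE ⊤ W le_top :=
    Scheme.Hom.appLE_map _ _ _
  exact ConcreteCategory.congr_hom h1 ((Scheme.ΓSpecIso (CommRingCat.of A)).inv a)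

/-- The `A`-algebra of sections. -/
noncomputable abbrev alg (V : X.Opens) : Algebra A Γ(X, V) := (str f V).toAlgebra

/-- Restriction as a map of `A`-algebras. -/
noncomputable def res {V W : X.Opens} (h : W ≤ V) :
    letI := alg f V
    letI := alg f W
    Γ(X, V) →ₐ[A] Γ(X, W) :=
  letI := alg f V
  letI := alg f W
  { (X.presheaf.map (homOfLE h).op).hom with
    commutes' := fun a => res_str f h a }

theorem res_apply {V W : X.Opens} (h : W ≤ V) (x : Γ(X, V)) :
    res f h x = X.presheaf.map (homOfLE h).op x := rfl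

theorem flat [Flat f] {V : X.Opens} (hV : IsAffineOpen V) :
    letI := alg f V
    Module.Flat A Γ(X, V) := by
  letI := alg f V
  have h1 : (f.appLE ⊤ V le_top).hom.Flat :=
    Scheme.Hom.flat_appLE f (isAffineOpen_top _) hV le_top
  have h2 : (Scheme.ΓSpecIso (CommRingCat.of A)).inv.hom.Flat :=
    RingHom.Flat.of_bijective (ConcreteCategory.bijective_of_isIso _)
  exact h2.comp h1

end

section Fibre

variable {A : Type u} [CommRing A] {K : Type u} [CommRing K] [Algebra A K] {X X₀ : Scheme.{u}}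
  {f : X ⟶ Spec (CommRingCat.of A)} {f₀ : X₀ ⟶ Spec (CommRingCat.of K)} {j : X₀ ⟶ X}
  (H : IsPullback j f₀ f (Spec.map (CommRingCat.ofHom (algebraMap A K))))

include H in
theorem isPushout {V : X.Opens} (hV : IsAffineOpen V) :
    IsPushout (CommRingCat.ofHom (algebraMap A K)) (CommRingCat.ofHom (str f V))
      (CommRingCat.ofHom (str f₀ (j ⁻¹ᵁ V))) (j.appLE V (j ⁻¹ᵁ V) le_rfl) :=
  Fga.GrSys.isPushout_coeff H hV

include H in
/-- The sections of the base change over an affine open. -/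
theorem exists_equiv {V : X.Opens} (hV : IsAffineOpen V) :
    letI := alg f V
    ∃ e : K ⊗[A] Γ(X, V) ≃+ Γ(X₀, j ⁻¹ᵁ V),
      ∀ (c : K) (b : Γ(X, V)), e (c ⊗ₜ b) = str f₀ (j ⁻¹ᵁ V) c * j.app V b := by
  letI := alg f V
  letI : Algebra K Γ(X₀, j ⁻¹ᵁ V) := alg f₀ (j ⁻¹ᵁ V)
  letI : Algebra Γ(X, V) Γ(X₀, j ⁻¹ᵁ V) := (j.appLE V (j ⁻¹ᵁ V) le_rfl).hom.toAlgebra
  letI : Algebra A Γ(X₀, j ⁻¹ᵁ V) := ((str f₀ (j ⁻¹ᵁ V)).comp (algebraMap A K)).toAlgebra
  have h1 := isPushout H hV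
  haveI : IsScalarTower A K Γ(X₀, j ⁻¹ᵁ V) := IsScalarTower.of_algebraMap_eq fun a => rfl
  haveI : IsScalarTower A Γ(X, V) Γ(X₀, j ⁻¹ᵁ V) := IsScalarTower.of_algebraMap_eq fun a =>
    ConcreteCategory.congr_hom h1.w a
  have h2 : Algebra.IsPushout A K Γ(X, V) Γ(X₀, j ⁻¹ᵁ V) :=
    CommRingCat.isPushout_iff_isPushout.mp h1
  refine ⟨h2.out.equiv.toAddEquiv, fun c b => ?_⟩
  refine (h2.out.equiv_tmul c b).trans ?_
  have h3 : j.appLE V (j ⁻¹ᵁ V) le_rfl = j.app V := Scheme.Hom.appLE_eq_app _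
  change str f₀ (j ⁻¹ᵁ V) c * (j.appLE V (j ⁻¹ᵁ V) le_rfl) b = _
  rw [h3]

end Fibre

section Field

variable {K : Type u} [Field K] {X₀ : Scheme.{u}} (f₀ : X₀ ⟶ Spec (CommRingCat.of K))

/-- The global functions of an integral proper scheme with a rational point are constant. -/
theorem str_surjective [IsIntegral X₀] [IsProper f₀] (σ : Spec (CommRingCat.of K) ⟶ X₀)
    (hσ : σ ≫ f₀ = 𝟙 _) : Function.Surjective (str f₀ ⊤) := by
  letI := (isField_of_universallyClosed K f₀).toField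
  let τ : Γ(X₀, ⊤) →+* K := ((Scheme.ΓSpecIso (CommRingCat.of K)).hom.hom).comp σ.appTop.hom
  have hτ : Function.Injective τ := τ.injective
  intro g
  refine ⟨τ g, hτ ?_⟩
  have h1 : f₀.appTop ≫ σ.appTop = 𝟙 _ := by
    rw [← Scheme.Hom.comp_appTop, hσ]
    exact Scheme.Hom.id_appTop
  have h2 : ∀ c : K, τ (str f₀ ⊤ c) = c := by
    intro c
    have h3 : f₀.appLE ⊤ ⊤ le_top = f₀.appTop := Scheme.Hom.appLE_eq_app _
    change (Scheme.ΓSpecIso (CommRingCat.of K)).hom (σ.appTop ((f₀.appLE ⊤ ⊤ le_top)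
      ((Scheme.ΓSpecIso (CommRingCat.of K)).inv c))) = c
    rw [h3]
    have h4 := ConcreteCategory.congr_hom h1 ((Scheme.ΓSpecIso (CommRingCat.of K)).inv c)
    refine (congrArg (Scheme.ΓSpecIso (CommRingCat.of K)).hom h4).trans ?_
    exact ConcreteCategory.congr_hom (Scheme.ΓSpecIso (CommRingCat.of K)).inv_hom_id c
  exact h2 _

end Field

section Main

variable {A : Type u} [CommRing A] [IsLocalRing A] [IsArtinianRing A] {X : Scheme.{u}}
  (f : X ⟶ Spec (CommRingCat.of A))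

/-- The closed fibre of a connected proper smooth scheme with a section. -/
theorem exists_fibre [IsProper f] [Smooth f] [ConnectedSpace X] (σ : Spec (CommRingCat.of A) ⟶ X)
    (hσ : σ ≫ f = 𝟙 _) : ∃ (X₀ : Scheme.{u}) (j : X₀ ⟶ X)
      (f₀ : X₀ ⟶ Spec (CommRingCat.of (IsLocalRing.ResidueField A)))
      (_ : IsPullback j f₀ f (Spec.map (CommRingCat.ofHom (algebraMap A (IsLocalRing.ResidueField A))))),
      Function.Surjective (str f₀ ⊤) := by
  let r := Spec.map (CommRingCat.ofHom (IsLocalRing.residue A))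
  let X₀ := pullback f r
  let j : X₀ ⟶ X := pullback.fst f r
  let f₀ : X₀ ⟶ Spec (CommRingCat.of (IsLocalRing.ResidueField A)) := pullback.snd f r
  have h2 : Surjective r := by
    have : Subsingleton (PrimeSpectrum A) := inferInstance
    refine ⟨fun y => ⟨IsLocalRing.closedPoint _, ?_⟩⟩
    exact Subsingleton.elim (α := PrimeSpectrum A) _ _
  have h3 : Surjective j := inferInstance
  have h4 : IsClosedImmersion j := inferInstance
  let e : X₀ ≃ₜ X := (isHomeomorph_iff_isEmbedding_surjective.2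
    ⟨j.isClosedEmbedding.isEmbedding, j.surjective⟩).homeomorph
  have h5 : ConnectedSpace X₀ := e.symm.surjective.connectedSpace e.symm.continuous
  have h6 : Smooth f₀ := inferInstance
  have h7 : IsLocallyNoetherian X₀ := LocallyOfFiniteType.isLocallyNoetherian f₀
  have h8 : IsIntegral X₀ := by
    rw [Ega1.GenPts.isIntegral_iff]
    exact ⟨inferInstance, fun x => (Sga4B.SmoothNormal.isNormalScheme_of_smooth f₀ x).1⟩
  have h9 : IsProper f₀ := inferInstance
  refine ⟨X₀, j, f₀, IsPullback.of_hasPullback f r, ?_⟩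
  refine str_surjective f₀ (pullback.lift (r ≫ σ) (𝟙 _) (by rw [Category.assoc, hσ]; simp)) ?_
  exact pullback.lift_snd _ _ _

omit [IsLocalRing A] [IsArtinianRing A] in
/-- The base case: compatible families in `K ⊗ Γ(X, V)` if `Γ(X₀, O) = K`. -/
theorem base {K : Type u} [CommRing K] [Algebra A K] {X₀ : Scheme.{u}}
    {f₀ : X₀ ⟶ Spec (CommRingCat.of K)} {j : X₀ ⟶ X}
    (H : IsPullback j f₀ f (Spec.map (CommRingCat.ofHom (algebraMap A K))))
    (hs : Function.Surjective (str f₀ ⊤)) (𝒱 : Set X.Opens) (h𝒱 : ∀ V ∈ 𝒱, IsAffineOpen V)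
    (hb : ∀ (x : X) (U : X.Opens), x ∈ U → ∃ V ∈ 𝒱, x ∈ V ∧ V ≤ U) :
    letI : ∀ V : 𝒱, Algebra A Γ(X, V.1) := fun V => alg f V.1
    ConstAlg.Const (A := A) (fun V W : 𝒱 => W.1 ≤ V.1) (fun V : 𝒱 => Γ(X, V.1))
      (fun V W h => res f h) K := by
  letI : ∀ V : 𝒱, Algebra A Γ(X, V.1) := fun V => alg f V.1
  intro u hu
  choose e he using fun V : 𝒱 => exists_equiv H (h𝒱 V.1 V.2)
  have hres : ∀ (V W : 𝒱) (h : W.1 ≤ V.1) (t : K ⊗[A] Γ(X, V.1)),
      X₀.presheaf.map (homOfLE (j.preimage_mono h)).op (e V t) =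
        e W ((res f h).toLinearMap.lTensor K t) := by
    intro V W h t
    induction t with
    | zero => simp
    | add x y hx hy => rw [map_add, map_add, hx, hy, map_add, map_add]
    | tmul c b =>
      rw [he V, LinearMap.lTensor_tmul]
      refine Eq.trans ?_ (he W c _).symm
      rw [map_mul, res_str f₀ (j.preimage_mono h)]
      congr 1
      exact (ConcreteCategory.congr_hom (j.naturality (homOfLE h).op) b).symm
  -- gluing
  have hcov : (⊤ : X₀.Opens) ≤ ⨆ V : 𝒱, j ⁻¹ᵁ V.1 := by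
    intro x _
    obtain ⟨V, hV, hx, -⟩ := hb (j x) ⊤ trivial
    exact Opens.mem_iSup.mpr ⟨⟨V, hV⟩, hx⟩
  have hcomp : TopCat.Presheaf.IsCompatible X₀.sheaf.1 (fun V : 𝒱 => j ⁻¹ᵁ V.1)
      (fun V => e V (u V)) := by
    intro V W
    refine TopCat.Sheaf.eq_of_locally_eq' X₀.sheaf
      (fun T : {T : 𝒱 // T.1 ≤ V.1 ⊓ W.1} => j ⁻¹ᵁ T.1.1) _
      (fun T => homOfLE (j.preimage_mono T.2)) ?_ _ _ ?_
    · intro x hx
      obtain ⟨T, hT, hxT, hle⟩ := hb (j x) (V.1 ⊓ W.1) hx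
      exact Opens.mem_iSup.mpr ⟨⟨⟨T, hT⟩, hle⟩, hxT⟩
    · intro T
      have h1 := hres V T.1 (T.2.trans inf_le_left) (u V)
      have h2 := hres W T.1 (T.2.trans inf_le_right) (u W)
      rw [hu V T.1 (T.2.trans inf_le_left)] at h1
      rw [hu W T.1 (T.2.trans inf_le_right)] at h2
      have h3 := h1.trans h2.symm
      refine Eq.trans ?_ (h3.trans ?_)
      · exact (ConcreteCategory.congr_hom (X₀.presheaf.map_comp _ _) (e V (u V))).symm
      · exact (ConcreteCategory.congr_hom (X₀.presheaf.map_comp _ _) (e W (u W)))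
  obtain ⟨g, hg, -⟩ := TopCat.Sheaf.existsUnique_gluing' X₀.sheaf (fun V : 𝒱 => j ⁻¹ᵁ V.1) ⊤
    (fun V => homOfLE le_top) hcov (fun V => e V (u V)) hcomp
  obtain ⟨c, rfl⟩ := hs g
  refine ⟨c, fun V => (e V).injective ?_⟩
  rw [← hg V, he V, map_one, mul_one]
  exact res_str f₀ (le_top : j ⁻¹ᵁ V.1 ≤ ⊤) c

/-- Every compatible family `u V ∈ N ⊗ Γ(X, V)` is constant. -/
theorem const [IsProper f] [Smooth f] [ConnectedSpace X] (σ : Spec (CommRingCat.of A) ⟶ X)
    (hσ : σ ≫ f = 𝟙 _) (N : Type u) [AddCommGroup N] [Module A N] [Module.Finite A N]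
    (𝒱 : Set X.Opens) (h𝒱 : ∀ V ∈ 𝒱, IsAffineOpen V)
    (hb : ∀ (x : X) (U : X.Opens), x ∈ U → ∃ V ∈ 𝒱, x ∈ V ∧ V ≤ U)
    (u : ∀ V : X.Opens, V ∈ 𝒱 → letI := alg f V; N ⊗[A] Γ(X, V))
    (hu : ∀ (V : X.Opens) (hV : V ∈ 𝒱) (W : X.Opens) (hW : W ∈ 𝒱) (h : W ≤ V),
      letI := alg f V
      letI := alg f W
      (res f h).toLinearMap.lTensor N (u V hV) = u W hW) :
    ∃ ν : N, ∀ (V : X.Opens) (hV : V ∈ 𝒱), letI := alg f V; u V hV = ν ⊗ₜ[A] (1 : Γ(X, V)) := by
  letI : ∀ V : 𝒱, Algebra A Γ(X, V.1) := fun V => alg f V.1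
  haveI : ∀ V : 𝒱, Module.Flat A Γ(X, V.1) := fun V => flat f (h𝒱 V.1 V.2)
  obtain ⟨X₀, j, f₀, H, hs⟩ := exists_fibre f σ hσ
  have h1 := base f H hs 𝒱 h𝒱 hb
  have h2 : ConstAlg.Const (A := A) (fun V W : 𝒱 => W.1 ≤ V.1) (fun V : 𝒱 => Γ(X, V.1))
      (fun V W h => res f h) (A ⧸ IsLocalRing.maximalIdeal A) := h1
  obtain ⟨ν, hν⟩ := ConstAlg.const h2 N (fun V : 𝒱 => u V.1 V.2)
    (fun V W h => hu V.1 V.2 W.1 W.2 h)
  exact ⟨ν, fun V hV => hν ⟨V, hV⟩⟩

/-- A nonempty affine open is faithfully flat over the base. -/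
theorem faithfullyFlat [Flat f] {V : X.Opens} (hV : IsAffineOpen V) [Nonempty V] :
    letI := alg f V
    Module.FaithfullyFlat A Γ(X, V) := by
  letI := alg f V
  haveI : Module.Flat A Γ(X, V) := flat f hV
  haveI : Nontrivial Γ(X, V) := inferInstance
  refine ⟨fun m hm htop => ?_⟩
  rw [IsLocalRing.eq_maximalIdeal hm] at htop
  obtain ⟨n, hn⟩ := IsArtinianRing.isNilpotent_jacobson_bot (R := A)
  rw [IsLocalRing.jacobson_eq_maximalIdeal ⊥ bot_ne_top] at hn
  have h1 : ∀ k : ℕ, (IsLocalRing.maximalIdeal A ^ k) • (⊤ : Submodule A Γ(X, V)) = ⊤ := by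
    intro k
    induction k with
    | zero => rw [pow_zero, Ideal.one_eq_top, Submodule.top_smul]
    | succ k ih => rw [pow_succ, Submodule.mul_smul, htop, ih]
  have h2 := h1 n
  rw [hn, Ideal.zero_eq_bot, Submodule.bot_smul] at h2
  exact bot_ne_top (α := Submodule A Γ(X, V)) h2

/-- The constant is determined by its value on one nonempty affine open. -/
theorem tmul_one_injective [Flat f] (N : Type u) [AddCommGroup N] [Module A N] {V : X.Opens}
    (hV : IsAffineOpen V) [Nonempty V] :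
    letI := alg f V
    Function.Injective (fun ν : N => ν ⊗ₜ[A] (1 : Γ(X, V))) := by
  letI := alg f V
  haveI := faithfullyFlat f hV
  have h1 := Module.FaithfullyFlat.tensorProduct_mk_injective (A := A) (B := Γ(X, V)) N
  intro a b hab
  exact h1 (congrArg (TensorProduct.comm A N Γ(X, V)) hab)

end Main

end K184.Const
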