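import Mathlib.RingTheory.Ideal.AssociatedPrime.Finiteness
import Mathlib.LinearAlgebra.TensorProduct.RightExactness
import Mathlib.RingTheory.Flat.Basic
import Mathlib.RingTheory.Artinian.Ring
import Mathlib.RingTheory.HopkinsLevitzki

/-!
# Constancy of compatible families: the algebraic part

For a diagram of flat algebras `B i` over an Artinian local ring `A` such that every compatible
family in `(A ⧸ m) ⊗ B i` is constant, every compatible family in `N ⊗ B i` is constant, for all
finite `A`-modules `N`.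
-/

set_option autoImplicit false
universe u v

open TensorProduct

namespace K184.ConstAlg

variable {A : Type u} [CommRing A] {ι : Type v} (r : ι → ι → Prop) (B : ι → Type u)
  [∀ i, CommRing (B i)] [∀ i, Algebra A (B i)] (ρ : ∀ i j, r i j → B i →ₐ[A] B j)

/-- Every compatible family in `N ⊗ B i` is constant. -/
def Const (N : Type u) [AddCommGroup N] [Module A N] : Prop :=
  ∀ u : ∀ i, N ⊗[A] B i, (∀ i j (h : r i j), (ρ i j h).toLinearMap.lTensor N (u i) = u j) →
    ∃ ν : N, ∀ i, u i = ν ⊗ₜ 1

variable {r B ρ}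

theorem Const.of_equiv {N N' : Type u} [AddCommGroup N] [Module A N] [AddCommGroup N'] [Module A N']
    (e : N ≃ₗ[A] N') (h : Const r B ρ N) : Const r B ρ N' := by
  intro u hu
  obtain ⟨ν, hν⟩ := h (fun i => e.symm.toLinearMap.rTensor (B i) (u i)) (fun i j hij => by
    rw [← hu i j hij]
    exact LinearMap.congr_fun ((LinearMap.lTensor_comp_rTensor _ _ _).trans
      (LinearMap.rTensor_comp_lTensor _ _ _).symm) (u i))
  refine ⟨e ν, fun i => ?_⟩
  have h1 := congrArg (e.toLinearMap.rTensor (B i)) (hν i)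
  rw [← LinearMap.comp_apply, ← LinearMap.rTensor_comp, LinearMap.rTensor_tmul] at h1
  have h2 : e.toLinearMap ∘ₗ e.symm.toLinearMap = LinearMap.id := by ext; simp
  rw [h2, LinearMap.rTensor_id] at h1
  exact h1

theorem Const.of_exact [∀ i, Module.Flat A (B i)] {N₁ N₂ N₃ : Type u} [AddCommGroup N₁] [Module A N₁]
    [AddCommGroup N₂] [Module A N₂] [AddCommGroup N₃] [Module A N₃] (f : N₁ →ₗ[A] N₂)
    (g : N₂ →ₗ[A] N₃) (hf : Function.Injective f) (hg : Function.Surjective g)
    (hfg : Function.Exact f g) (h₁ : Const r B ρ N₁) (h₃ : Const r B ρ N₃) : Const r B ρ N₂ := by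
  intro u hu
  obtain ⟨ν₃, hν₃⟩ := h₃ (fun i => g.rTensor (B i) (u i)) (fun i j hij => by
    rw [← hu i j hij]
    exact LinearMap.congr_fun ((LinearMap.lTensor_comp_rTensor _ _ _).trans
      (LinearMap.rTensor_comp_lTensor _ _ _).symm) (u i))
  obtain ⟨ν₂, rfl⟩ := hg ν₃
  have hex : ∀ i, Function.Exact (f.rTensor (B i)) (g.rTensor (B i)) := fun i =>
    rTensor_exact (B i) hfg hg
  have hinj : ∀ i, Function.Injective (f.rTensor (B i)) := fun i =>
    Module.Flat.rTensor_preserves_injective_linearMap f hf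
  have hw : ∀ i, ∃ w : N₁ ⊗[A] B i, f.rTensor (B i) w = u i - ν₂ ⊗ₜ 1 := fun i => by
    refine (hex i _).mp ?_
    rw [map_sub, hν₃, LinearMap.rTensor_tmul, sub_self]
  choose w hw using hw
  obtain ⟨ν₁, hν₁⟩ := h₁ w (fun i j hij => by
    apply hinj j
    rw [hw j, ← hu i j hij]
    refine (LinearMap.congr_fun ((LinearMap.rTensor_comp_lTensor _ _ _).trans
      (LinearMap.lTensor_comp_rTensor _ _ _).symm) (w i)).trans ?_
    change (ρ i j hij).toLinearMap.lTensor N₂ (f.rTensor (B i) (w i)) = _
    rw [hw i, map_sub, LinearMap.lTensor_tmul]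
    congr 2
    exact map_one (ρ i j hij))
  refine ⟨f ν₁ + ν₂, fun i => ?_⟩
  have h1 := hw i
  rw [hν₁ i, LinearMap.rTensor_tmul] at h1
  rw [TensorProduct.add_tmul, h1, sub_add_cancel]

/-- Constancy for all finite modules. -/
theorem const [IsArtinianRing A] [IsLocalRing A] [∀ i, Module.Flat A (B i)]
    (h : Const r B ρ (A ⧸ IsLocalRing.maximalIdeal A)) (N : Type u) [AddCommGroup N] [Module A N]
    [hN : Module.Finite A N] : Const r B ρ N := by
  induction hN using IsNoetherianRing.induction_on_isQuotientEquivQuotientPrime A with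
  | subsingleton N =>
    intro u _
    exact ⟨0, fun i => Subsingleton.elim _ _⟩
  | quotient N p e =>
    have hp : p.1 = IsLocalRing.maximalIdeal A :=
      IsLocalRing.eq_maximalIdeal (IsArtinianRing.isMaximal_of_isPrime p.1)
    rw [hp] at e
    exact h.of_equiv e.symm
  | exact N₁ N₂ N₃ f g hf hg hfg h₁ h₃ => exact Const.of_exact f g hf hg hfg h₁ h₃

end K184.ConstAlg
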