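import Groth.Agent.DeRhamSh.K184.BcPm
import Groth.Agent.DeRhamSh.K184.Const
import Groth.Agent.DeRhamSh.K184.SecVan
import Groth.Agent.CohqA.AffPush
import Groth.Agent.S0012
import Groth.Agent.S0458

/-!
# Gluing classes in the top cohomology of the base changes to the opens of `X`

* `univVan`: universal vanishing above the dimension;
* `glue`: a family of classes `u V ∈ H^n(X_{Γ(V)}, F)`, `V` in a basis of affine opens, compatible with restriction, is the
  family of pull-backs of one class of `H^n(X, F)`.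
-/

set_option autoImplicit false
universe u

open CategoryTheory CategoryTheory.Limits AlgebraicGeometry Opposite TopologicalSpace
open scoped TensorProduct

namespace K184.Glue

open Groth.Agent K55 K56.PMap

/-- Vanishing above the dimension, for quasi-coherent modules on schemes affine over `X`. -/
theorem subsingleton_of_isAffineHom {X T : Scheme.{u}} [IsNoetherian X] (n : ℕ)
    (hd : topologicalKrullDim X ≤ n) (π : T ⟶ X) [IsAffineHom π] (M : T.Modules) (hM : Coh.IsQCoh M)
    (i : ℕ) (hi : n < i) : Subsingleton (Coh.HH T M i) := by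
  obtain ⟨e⟩ := S0012.result π M i
  have : NoetherianSpace X.toTopCat := inferInstanceAs (NoetherianSpace X)
  have h : Subsingleton (Coh.HH X ((Coh.push π).obj M) i) :=
    S0458.result (X := X.toTopCat) n hd (Coh.toAb ((Coh.push π).obj M)) i hi
  exact e.toEquiv.subsingleton

/-- **Universal vanishing above the dimension.** -/
theorem univVan {A : Type u} [CommRing A] (X : Scheme.{u}) [X.Over (Spec (CommRingCat.of A))]
    [IsNoetherian X] (F : X.Modules) (hF : Coh.IsQCoh F) (n : ℕ) (hd : topologicalKrullDim X ≤ n) :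
    BcFlat.UnivVan (A := A) X F (n + 1) := by
  intro B _ _ X' j q H
  have h1 : IsAffineHom j := MorphismProperty.of_isPullback (P := @IsAffineHom) H.flip inferInstance
  have h2 : Coh.IsQCoh ((Scheme.Modules.pullback j).obj F) := inferInstance
  exact subsingleton_of_isAffineHom n hd j _ h2 (n + 1) (Nat.lt_succ_self n)

section

variable {A B B' : Type u} [CommRing A] [CommRing B] [CommRing B'] [Algebra A B]
    [Algebra A B']

/-- Naturality in the algebra. -/
theorem natural (h : B →ₐ[A] B') {X : Scheme.{u}} [X.Over (Spec (CommRingCat.of A))] (F : X.Modules) (n : ℕ)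
    {X' X'' : Scheme.{u}} (j : X' ⟶ X) (j' : X'' ⟶ X) (k : X'' ⟶ X') (wj : k ≫ j = j')
    (q : X' ⟶ Spec (CommRingCat.of B)) (q' : X'' ⟶ Spec (CommRingCat.of B'))
    (w : k ≫ q = q' ≫ Spec.map (CommRingCat.ofHom h.toRingHom))
    (e : Coh.HH X F n ⊗[A] B ≃+ Coh.HH X' ((Scheme.Modules.pullback j).obj F) n)
    (he : ∀ (x : Coh.HH X F n) (b : B), e (x ⊗ₜ b) = Coh.toGlobal q b • CohPull.pullMod j F n x)
    (e' : Coh.HH X F n ⊗[A] B' ≃+ Coh.HH X'' ((Scheme.Modules.pullback j').obj F) n)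
    (he' : ∀ (x : Coh.HH X F n) (b : B'), e' (x ⊗ₜ b) = Coh.toGlobal q' b • CohPull.pullMod j' F n x)
    (t : Coh.HH X F n ⊗[A] B) :
    e' (h.toLinearMap.lTensor _ t) = pm k.base (BcPm.psi k wj F) n (e t) := by
  induction t with
  | zero => rw [map_zero, map_zero, map_zero, map_zero]
  | add x y hx hy => rw [map_add, map_add, map_add, map_add, hx, hy]
  | tmul x b =>
    rw [LinearMap.lTensor_tmul, he]
    refine (he' x (h b)).trans ?_
    refine Eq.trans ?_ (BcPm.pm_psi_smul k wj F n (Coh.toGlobal q b) (CohPull.pullMod j F n x)).symm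
    have h3 := BcNat.toGlobal_comp h.toRingHom k _ _ w b
    rw [BcPm.pm_psi_pullMod k wj F n x]
    exact congrArg (fun r : Coh.Γtop X'' => r • CohPull.pullMod j' F n x) h3.symm

/-- Base change in the top degree, with explicit structure maps. -/
theorem exists_equiv {X : Scheme.{u}} [X.Over (Spec (CommRingCat.of A))]
    [IsProper (X ↘ Spec (CommRingCat.of A))]
    [LocallyOfFinitePresentation (X ↘ Spec (CommRingCat.of A))] (F : X.Modules)
    (hF : CohB1.IsFP F) (hfl : FlatMod.IsFlatOver (X ↘ Spec (CommRingCat.of A)) F) (n : ℕ)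
    (hvan : BcFlat.UnivVan (A := A) X F (n + 1)) {T : Scheme.{u}} (j : T ⟶ X)
    (q : T ⟶ Spec (CommRingCat.of B))
    (H : IsPullback j q (X ↘ Spec (CommRingCat.of A)) (Spec.map (CommRingCat.ofHom (algebraMap A B)))) :
    ∃ e : Coh.HH X F n ⊗[A] B ≃+ Coh.HH T ((Scheme.Modules.pullback j).obj F) n,
      ∀ (x : Coh.HH X F n) (b : B), e (x ⊗ₜ b) = Coh.toGlobal q b • CohPull.pullMod j F n x := by
  letI : T.Over (Spec (CommRingCat.of B)) := ⟨q⟩
  exact BcFlat.exists_equiv_top X F hF hfl n hvan j H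

end

open K184.Const in
/-- **Gluing.** -/
theorem glue {A : Type u} [CommRing A] [IsLocalRing A] [IsArtinianRing A] {X : Scheme.{u}}
    (f : X ⟶ Spec (CommRingCat.of A)) [IsProper f] [Smooth f] [ConnectedSpace X]
    (σ : Spec (CommRingCat.of A) ⟶ X) (hσ : σ ≫ f = 𝟙 _) (F : X.Modules) (hFq : Coh.IsQCoh F)
    (hF : CohB1.IsFP F) (hfl : FlatMod.IsFlatOver f F) (n : ℕ) (hd : topologicalKrullDim X ≤ n)
    (𝒱 : Set X.Opens) (h𝒱 : ∀ V ∈ 𝒱, IsAffineOpen V)
    (hb : ∀ (x : X) (U : X.Opens), x ∈ U → ∃ V ∈ 𝒱, x ∈ V ∧ V ≤ U)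
    (T : X.Opens → Scheme.{u}) (j : ∀ V, T V ⟶ X) (q : ∀ V, T V ⟶ Spec Γ(X, V))
    (H : ∀ V ∈ 𝒱, IsPullback (j V) (q V) f (Spec.map (CommRingCat.ofHom (str f V))))
    (u : ∀ V ∈ 𝒱, Coh.HH (T V) ((Scheme.Modules.pullback (j V)).obj F) n)
    (hu : ∀ (V : X.Opens) (hV : V ∈ 𝒱) (W : X.Opens) (hW : W ∈ 𝒱) (h : W ≤ V) (k : T W ⟶ T V)
      (hk : k ≫ j V = j W) (_ : k ≫ q V = q W ≫ Spec.map (X.presheaf.map (homOfLE h).op)),
      pm k.base (BcPm.psi k hk F) n (u V hV) = u W hW) :
    ∃ ν : Coh.HH X F n, ∀ (V : X.Opens) (hV : V ∈ 𝒱), u V hV = CohPull.pullMod (j V) F n ν := by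
  letI : X.Over (Spec (CommRingCat.of A)) := ⟨f⟩
  have i1 : IsProper (X ↘ Spec (CommRingCat.of A)) := ‹IsProper f›
  have i2 : LocallyOfFinitePresentation (X ↘ Spec (CommRingCat.of A)) :=
    inferInstanceAs (LocallyOfFinitePresentation f)
  have i3 : IsNoetherian X := SecVan.isNoetherian f
  have hvan : BcFlat.UnivVan (A := A) X F (n + 1) := univVan X F hFq n hd
  letI : ∀ V : X.Opens, Algebra A Γ(X, V) := fun V => alg f V
  have key : ∀ (V : X.Opens) (_ : V ∈ 𝒱),
      ∃ e : Coh.HH X F n ⊗[A] Γ(X, V) ≃+ Coh.HH (T V) ((Scheme.Modules.pullback (j V)).obj F) n,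
      ∀ (x : Coh.HH X F n) (b : Γ(X, V)), e (x ⊗ₜ b) = Coh.toGlobal (q V) b • CohPull.pullMod (j V) F n x :=
    fun V hV => exists_equiv F hF hfl n hvan (j V) (q V) (H V hV)
  choose e he using key
  have i4 : Module.Finite A (Coh.HH X F n) := BcFlat.finite X F hF hfl n
  obtain ⟨ν, hν⟩ := const f σ hσ (Coh.HH X F n) 𝒱 h𝒱 hb (fun V hV => (e V hV).symm (u V hV))
    (fun V hV W hW h => by
      apply (e W hW).injective
      rw [AddEquiv.apply_symm_apply]
      let k : T W ⟶ T V := (H V hV).lift (j W) (q W ≫ Spec.map (X.presheaf.map (homOfLE h).op)) (by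
        rw [(H W hW).w, Category.assoc, ← Spec.map_comp]
        congr 2
        ext a
        exact (res_str f h a).symm)
      have hk : k ≫ j V = j W := (H V hV).lift_fst _ _ _
      have hq : k ≫ q V = q W ≫ Spec.map (X.presheaf.map (homOfLE h).op) := (H V hV).lift_snd _ _ _
      refine (natural (res f h) F n (j V) (j W) k hk (q V) (q W) hq (e V hV) (he V hV) (e W hW)
        (he W hW) _).trans ?_
      rw [AddEquiv.apply_symm_apply]
      exact hu V hV W hW h k hk hq)
  refine ⟨ν, fun V hV => ?_⟩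
  have h1 := congrArg (e V hV) (hν V hV)
  rw [AddEquiv.apply_symm_apply, he, map_one, one_smul] at h1
  exact h1

/-- The pull-back of the glued class to a point with values in `B`. -/
theorem pm_eq {X T T' : Scheme.{u}} {F : X.Modules} {n : ℕ} {ν : Coh.HH X F n} {j : T ⟶ X} (j' : T' ⟶ X)
    {u : Coh.HH T ((Scheme.Modules.pullback j).obj F) n} (hu : u = CohPull.pullMod j F n ν) (k : T' ⟶ T)
    (hk : k ≫ j = j') : pm k.base (BcPm.psi k hk F) n u = CohPull.pullMod j' F n ν := by
  rw [hu, BcPm.pm_psi_pullMod]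

end K184.Glue
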