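import Groth.Agent.DeRhamSh.K184.GlueLoc
import Groth.Agent.DeRhamSh.K853.Terms
import Groth.Agent.DeRhamSh.K853.EtCoord
import Groth.Agent.CanPar.K795.FibreRank
import Groth.Agent.Desc.FinLocFreeSections

/-!
# Gluing classes attached to coordinate systems, for the terms of the de Rham complex
-/

set_option autoImplicit false
universe u

open CategoryTheory CategoryTheory.Limits AlgebraicGeometry Opposite TopologicalSpace
open scoped TensorProduct

namespace K184.GlueD

open Groth.Agent K55 K56.PMap K184.Const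

section Terms

variable {S X : Scheme.{u}} (f : X ⟶ S) [QuasiSeparated f] [Smooth f] (D : DeRhamSh.OmegaCx f) (p : ℕ)

theorem isFinLocFree_term : FlatMod.IsFinLocFree (D.term p) :=
  K853.Terms.isFinLocFree_term (K853.Terms.isFinLocFree_omega f) D p

theorem isFP_term : CohB1.IsFP (D.term p) :=
  Groth.Agent.Desc.FinLocFreeSections.isFP_of_isFinLocFree (isFinLocFree_term f D p)

theorem isFlatOver_term : FlatMod.IsFlatOver f (D.term p) :=
  K795.FibreRank.isFlatOver_of_isFinLocFree f (isFinLocFree_term f D p)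

theorem isQCoh_term : Coh.IsQCoh (D.term p) := K853.Terms.isQCoh_term D p

end Terms

variable {A : Type u} [CommRing A] [IsLocalRing A] [IsArtinianRing A] {X : Scheme.{u}}
    (f : X ⟶ Spec (CommRingCat.of A)) [IsProper f] (n : ℕ) [SmoothOfRelativeDimension n f] [ConnectedSpace X]
    (T : X.Opens → Scheme.{u}) (j : ∀ V, T V ⟶ X) (q : ∀ V, T V ⟶ Spec Γ(X, V))
    (H : ∀ V, IsAffineOpen V → IsPullback (j V) (q V) f (Spec.map (CommRingCat.ofHom (str f V))))

include H in
/-- **Gluing** of classes attached to coordinate systems: general module. -/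
theorem glue (F : X.Modules) (hFq : Coh.IsQCoh F) (hF : CohB1.IsFP F) (hfl : FlatMod.IsFlatOver f F)
    (σ : Spec (CommRingCat.of A) ⟶ X) (hσ : σ ≫ f = 𝟙 _)
    (Q : ∀ V : X.Opens, (Fin n → Γ(X, V)) → Prop)
    (hQ : ∀ (V : X.Opens) (_ : IsAffineOpen V) (W : X.Opens) (_ : IsAffineOpen W) (h : W ≤ V)
      (x : Fin n → Γ(X, V)), Q V x → Q W fun i => X.presheaf.map (homOfLE h).op (x i))
    (hQ' : ∀ (V : X.Opens) (_ : IsAffineOpen V) (x : Fin n → Γ(X, V)), K853.EtCoord.IsCoord f V x → Q V x)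
    (U : ∀ (V : X.Opens) (_ : IsAffineOpen V) (x : Fin n → Γ(X, V)), Q V x →
      Coh.HH (T V) ((Scheme.Modules.pullback (j V)).obj F) n)
    (hres : ∀ (V : X.Opens) (hV : IsAffineOpen V) (W : X.Opens) (hW : IsAffineOpen W) (h : W ≤ V) (k : T W ⟶ T V)
      (hk : k ≫ j V = j W) (_ : k ≫ q V = q W ≫ Spec.map (X.presheaf.map (homOfLE h).op))
      (x : Fin n → Γ(X, V)) (hx : Q V x),
      pm k.base (BcPm.psi k hk F) n (U V hV x hx) =
        U W hW (fun i => X.presheaf.map (homOfLE h).op (x i)) (hQ V hV W hW h x hx))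
    (hind : ∀ (V : X.Opens) (hV : IsAffineOpen V) (x y : Fin n → Γ(X, V)) (hx : Q V x) (hy : Q V y),
      ∀ p ∈ V, ∃ (W : X.Opens) (hW : IsAffineOpen W) (h : W ≤ V), p ∈ W ∧
      U W hW (fun i => X.presheaf.map (homOfLE h).op (x i)) (hQ V hV W hW h x hx) =
        U W hW (fun i => X.presheaf.map (homOfLE h).op (y i)) (hQ V hV W hW h y hy)) :
    ∃ ν : Coh.HH X F n, ∀ (V : X.Opens) (hV : IsAffineOpen V) (x : Fin n → Γ(X, V)) (hx : Q V x),
      U V hV x hx = CohPull.pullMod (j V) F n ν := by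
  have hsm : Smooth f := SmoothOfRelativeDimension.smooth n f
  have hd := (SecVan.irreducibleSpace f n).2
  have hind' : ∀ (V : X.Opens) (hV : IsAffineOpen V) (x y : Fin n → Γ(X, V)) (hx : Q V x) (hy : Q V y),
      U V hV x hx = U V hV y hy := by
    intro V hV x y hx hy
    refine GlueLoc.eq_of_locally f F hFq hF hfl n hd T j q H hV _ _ fun p hp => ?_
    obtain ⟨W, hWa, hW, hpW, h1⟩ := hind V hV x y hx hy p hp
    refine ⟨W, hWa, hW, hpW, fun k hk hq => ?_⟩
    rw [hres V hV W hWa hW k hk hq x hx, hres V hV W hWa hW k hk hq y hy, h1]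
  obtain ⟨ν, hν⟩ := Glue.glue f σ hσ F hFq hF hfl n hd
    {V | IsAffineOpen V ∧ ∃ x : Fin n → Γ(X, V), Q V x}
    (fun V hV => hV.1) (fun x V hx => by
      obtain ⟨W, h1, h2, h3, y, h4⟩ := K853.EtCoord.exists_coord f n x V hx
      exact ⟨W, ⟨h1, y, hQ' W h1 y h4⟩, h2, h3⟩) T j q (fun V hV => H V hV.1)
    (fun V hV => U V hV.1 hV.2.choose hV.2.choose_spec) (fun V hV W hW h k hk hq => by
      rw [hres V hV.1 W hW.1 h k hk hq]
      exact hind' W hW.1 _ _ _ _)
  exact ⟨ν, fun V hV x hx => (hind' V hV _ _ _ _).trans (hν V ⟨hV, x, hx⟩)⟩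

include H in
/-- **Gluing** of classes attached to coordinate systems, for the terms of the de Rham complex. -/
theorem main (D : DeRhamSh.OmegaCx f) (p : ℕ)
    (σ : Spec (CommRingCat.of A) ⟶ X) (hσ : σ ≫ f = 𝟙 _)
    (Q : ∀ V : X.Opens, (Fin n → Γ(X, V)) → Prop)
    (hQ : ∀ (V : X.Opens) (_ : IsAffineOpen V) (W : X.Opens) (_ : IsAffineOpen W) (h : W ≤ V)
      (x : Fin n → Γ(X, V)), Q V x → Q W fun i => X.presheaf.map (homOfLE h).op (x i))
    (hQ' : ∀ (V : X.Opens) (_ : IsAffineOpen V) (x : Fin n → Γ(X, V)), K853.EtCoord.IsCoord f V x → Q V x)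
    (U : ∀ (V : X.Opens) (_ : IsAffineOpen V) (x : Fin n → Γ(X, V)), Q V x →
      Coh.HH (T V) ((Scheme.Modules.pullback (j V)).obj (D.term p)) n)
    (hres : ∀ (V : X.Opens) (hV : IsAffineOpen V) (W : X.Opens) (hW : IsAffineOpen W) (h : W ≤ V) (k : T W ⟶ T V)
      (hk : k ≫ j V = j W) (_ : k ≫ q V = q W ≫ Spec.map (X.presheaf.map (homOfLE h).op))
      (x : Fin n → Γ(X, V)) (hx : Q V x),
      pm k.base (BcPm.psi k hk (D.term p)) n (U V hV x hx) =
        U W hW (fun i => X.presheaf.map (homOfLE h).op (x i)) (hQ V hV W hW h x hx))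
    (hind : ∀ (V : X.Opens) (hV : IsAffineOpen V) (x y : Fin n → Γ(X, V)) (hx : Q V x) (hy : Q V y),
      ∀ p ∈ V, ∃ (W : X.Opens) (hW : IsAffineOpen W) (h : W ≤ V), p ∈ W ∧
      U W hW (fun i => X.presheaf.map (homOfLE h).op (x i)) (hQ V hV W hW h x hx) =
        U W hW (fun i => X.presheaf.map (homOfLE h).op (y i)) (hQ V hV W hW h y hy)) :
    ∃ ν : Coh.HH X (D.term p) n, ∀ (V : X.Opens) (hV : IsAffineOpen V) (x : Fin n → Γ(X, V)) (hx : Q V x),
      U V hV x hx = CohPull.pullMod (j V) (D.term p) n ν := by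
  have hsm : Smooth f := SmoothOfRelativeDimension.smooth n f
  exact glue f n T j q H (D.term p) (isQCoh_term f D p) (isFP_term f D p) (isFlatOver_term f D p) σ hσ Q hQ hQ'
    U hres hind

end K184.GlueD
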