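import Groth.Agent.DeRhamSh.K184.Glue
import Mathlib.RingTheory.Localization.BaseChange

/-!
# Gluing classes in the top cohomology, with local independence only

`main`: classes `U V x ∈ H^n(X_{Γ(V)}, F)` attached to affine opens `V` and systems `x : P V`, compatible with
restriction and locally independent of `x`, are all the pull-back of one class of `H^n(X, F)`.
-/

set_option autoImplicit false
universe u

open CategoryTheory CategoryTheory.Limits AlgebraicGeometry Opposite TopologicalSpace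
open scoped TensorProduct

namespace K184.GlueLoc

open Groth.Agent K55 K56.PMap K184.Const

section Algebra

variable {A R : Type u} [CommRing A] [CommRing R] [Algebra A R] (N : Type u) [AddCommGroup N] [Module A N]

/-- An element of `N ⊗ R` which vanishes in `N ⊗ R_g` is killed by a power of `g`. -/
theorem exists_pow_smul {R' : Type u} [CommRing R'] [Algebra A R'] [Algebra R R'] [IsScalarTower A R R']
    (g : R) [IsLocalization.Away g R'] (φ : R →ₐ[A] R') (hφ : ∀ r, φ r = algebraMap R R' r)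
    (t : N ⊗[A] R) (ht : φ.toLinearMap.lTensor N t = 0) :
    ∃ k : ℕ, g ^ k • (TensorProduct.comm A N R t) = 0 := by
  have h1 : TensorProduct.AlgebraTensorModule.rTensor A N (Algebra.linearMap R R')
      (TensorProduct.comm A N R t) = TensorProduct.comm A N R' (φ.toLinearMap.lTensor N t) := by
    clear ht
    induction t with
    | zero => simp
    | add x y hx hy => simp only [map_add, hx, hy]
    | tmul x y =>
      simp only [TensorProduct.comm_tmul, TensorProduct.AlgebraTensorModule.rTensor_tmul,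
        Algebra.linearMap_apply, LinearMap.lTensor_tmul, AlgHom.toLinearMap_apply, hφ]
  rw [ht, map_zero] at h1
  obtain ⟨⟨_, k, rfl⟩, hk⟩ := (IsLocalizedModule.eq_zero_iff (Submonoid.powers g)
    (TensorProduct.AlgebraTensorModule.rTensor A N (Algebra.linearMap R R'))).1 h1
  exact ⟨k, hk⟩

/-- Locality of the vanishing in `N ⊗ R`. -/
theorem eq_zero (t : N ⊗[A] R) (h : ∀ p : Ideal R, p.IsMaximal → ∃ g : R, g ∉ p ∧
      ∃ k : ℕ, g ^ k • (TensorProduct.comm A N R t) = 0) : t = 0 := by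
  apply (TensorProduct.comm A N R).injective
  rw [map_zero]
  let I : Ideal R := LinearMap.ker (LinearMap.toSpanSingleton R (R ⊗[A] N) (TensorProduct.comm A N R t))
  have hI : I = ⊤ := by
    by_contra hne
    obtain ⟨m, hm, hIm⟩ := Ideal.exists_le_maximal I hne
    obtain ⟨g, hg, k, hk⟩ := h m hm
    have h1 : g ^ k ∈ I := hk
    exact hg (hm.isPrime.mem_of_pow_mem k (hIm h1))
  have h2 : (1 : R) ∈ I := by rw [hI]; trivial
  have h3 : (1 : R) • (TensorProduct.comm A N R t) = 0 := h2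
  rwa [one_smul] at h3

end Algebra

/-- Locality of the vanishing in `N ⊗ Γ(X, V)`. -/
theorem eq_zero_of_res {A : Type u} [CommRing A] {X : Scheme.{u}} (f : X ⟶ Spec (CommRingCat.of A))
    (N : Type u) [AddCommGroup N] [Module A N] {V : X.Opens} (hV : IsAffineOpen V)
    (t : letI := alg f V; N ⊗[A] Γ(X, V))
    (h : ∀ p ∈ V, ∃ (W : X.Opens) (hW : W ≤ V), p ∈ W ∧
      letI := alg f V
      letI := alg f W
      (res f hW).toLinearMap.lTensor N t = 0) : t = 0 := by
  letI : ∀ V : X.Opens, Algebra A Γ(X, V) := fun V => alg f V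
  refine eq_zero (A := A) (R := Γ(X, V)) N t fun m hm => ?_
  let x : PrimeSpectrum Γ(X, V) := ⟨m, hm.isPrime⟩
  have hxV : hV.fromSpec x ∈ V := by
    have := hV.range_fromSpec
    exact this.le ⟨x, rfl⟩
  obtain ⟨W, hW, hpW, hres⟩ := h _ hxV
  obtain ⟨g, hgW, hg⟩ := hV.exists_basicOpen_le (V := W) ⟨_, hpW⟩ hxV
  refine ⟨g, ?_, ?_⟩
  · have h1 : x ∈ hV.fromSpec ⁻¹ᵁ X.basicOpen g := hg
    rw [hV.fromSpec_preimage_basicOpen] at h1
    exact h1
  · haveI := hV.isLocalization_basicOpen g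
    haveI : IsScalarTower A Γ(X, V) Γ(X, X.basicOpen g) :=
      IsScalarTower.of_algebraMap_eq fun a => (res_str f (X.basicOpen_le g) a).symm
    refine exists_pow_smul N g (res f (X.basicOpen_le g)) (fun r => rfl) t ?_
    have h2 : (res f (X.basicOpen_le g)).toLinearMap.lTensor N t =
        (res f hgW).toLinearMap.lTensor N ((res f hW).toLinearMap.lTensor N t) := by
      rw [← LinearMap.comp_apply, ← LinearMap.lTensor_comp]
      congr 2
      ext r
      change X.presheaf.map _ r = X.presheaf.map _ (X.presheaf.map _ r)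
      rw [← CommRingCat.comp_apply, ← X.presheaf.map_comp]
      rfl
    rw [h2, hres, map_zero]

section Main

variable {A : Type u} [CommRing A] [IsLocalRing A] [IsArtinianRing A] {X : Scheme.{u}}
    (f : X ⟶ Spec (CommRingCat.of A)) [IsProper f] [Smooth f]
    (F : X.Modules) (hFq : Coh.IsQCoh F)
    (hF : CohB1.IsFP F) (hfl : FlatMod.IsFlatOver f F) (n : ℕ) (hd : topologicalKrullDim X ≤ n)
    (T : X.Opens → Scheme.{u}) (j : ∀ V, T V ⟶ X) (q : ∀ V, T V ⟶ Spec Γ(X, V))
    (H : ∀ V, IsAffineOpen V → IsPullback (j V) (q V) f (Spec.map (CommRingCat.ofHom (str f V))))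

include hFq hF hfl hd H in
/-- Classes of `H^n(X_{Γ(V)}, F)` are determined locally on `V`. -/
theorem eq_of_locally {V : X.Opens} (hV : IsAffineOpen V)
    (a b : Coh.HH (T V) ((Scheme.Modules.pullback (j V)).obj F) n)
    (h : ∀ p ∈ V, ∃ (W : X.Opens) (_ : IsAffineOpen W) (hW : W ≤ V), p ∈ W ∧ ∀ (k : T W ⟶ T V)
      (hk : k ≫ j V = j W) (_ : k ≫ q V = q W ≫ Spec.map (X.presheaf.map (homOfLE hW).op)),
      pm k.base (BcPm.psi k hk F) n a = pm k.base (BcPm.psi k hk F) n b) : a = b := by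
  letI : X.Over (Spec (CommRingCat.of A)) := ⟨f⟩
  have i1 : IsProper (X ↘ Spec (CommRingCat.of A)) := ‹IsProper f›
  have i2 : LocallyOfFinitePresentation (X ↘ Spec (CommRingCat.of A)) :=
    inferInstanceAs (LocallyOfFinitePresentation f)
  have i3 : IsNoetherian X := SecVan.isNoetherian f
  have hvan : BcFlat.UnivVan (A := A) X F (n + 1) := Glue.univVan X F hFq n hd
  letI : ∀ V : X.Opens, Algebra A Γ(X, V) := fun V => alg f V
  obtain ⟨e, he⟩ := Glue.exists_equiv F hF hfl n hvan (j V) (q V) (H V hV)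
  rw [← sub_eq_zero]
  apply e.symm.injective
  rw [map_zero]
  refine eq_zero_of_res f (Coh.HH X F n) hV _ fun p hp => ?_
  obtain ⟨W, hWa, hW, hpW, h1⟩ := h p hp
  refine ⟨W, hW, hpW, ?_⟩
  obtain ⟨e', he'⟩ := Glue.exists_equiv F hF hfl n hvan (j W) (q W) (H W hWa)
  let k : T W ⟶ T V := (H V hV).lift (j W) (q W ≫ Spec.map (X.presheaf.map (homOfLE hW).op)) (by
    rw [(H W hWa).w, Category.assoc, ← Spec.map_comp]
    congr 2
    ext a
    exact (res_str f hW a).symm)
  have hk : k ≫ j V = j W := (H V hV).lift_fst _ _ _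
  have hq : k ≫ q V = q W ≫ Spec.map (X.presheaf.map (homOfLE hW).op) := (H V hV).lift_snd _ _ _
  apply e'.injective
  rw [map_zero]
  refine (Glue.natural (res f hW) F n (j V) (j W) k hk (q V) (q W) hq e he e' he' _).trans ?_
  rw [AddEquiv.apply_symm_apply, map_sub, sub_eq_zero]
  exact h1 k hk hq

include hFq hF hfl hd H in
/-- **Gluing with local independence.** -/
theorem main [ConnectedSpace X] (σ : Spec (CommRingCat.of A) ⟶ X) (hσ : σ ≫ f = 𝟙 _)
    (P : X.Opens → Type*) (r : ∀ {V W : X.Opens}, W ≤ V → P V → P W)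
    (hP : ∀ (x : X) (U : X.Opens), x ∈ U → ∃ V, IsAffineOpen V ∧ x ∈ V ∧ V ≤ U ∧ Nonempty (P V))
    (U : ∀ V : X.Opens, IsAffineOpen V → P V → Coh.HH (T V) ((Scheme.Modules.pullback (j V)).obj F) n)
    (hres : ∀ (V : X.Opens) (hV : IsAffineOpen V) (W : X.Opens) (hW : IsAffineOpen W) (h : W ≤ V) (k : T W ⟶ T V)
      (hk : k ≫ j V = j W) (_ : k ≫ q V = q W ≫ Spec.map (X.presheaf.map (homOfLE h).op)) (x : P V),
      pm k.base (BcPm.psi k hk F) n (U V hV x) = U W hW (r h x))
    (hind : ∀ (V : X.Opens) (_ : IsAffineOpen V) (x y : P V), ∀ p ∈ V, ∃ (W : X.Opens) (hW : IsAffineOpen W)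
      (h : W ≤ V), p ∈ W ∧ U W hW (r h x) = U W hW (r h y)) :
    ∃ ν : Coh.HH X F n, ∀ (V : X.Opens) (hV : IsAffineOpen V) (x : P V),
      U V hV x = CohPull.pullMod (j V) F n ν := by
  have hind' : ∀ (V : X.Opens) (hV : IsAffineOpen V) (x y : P V), U V hV x = U V hV y := by
    intro V hV x y
    refine eq_of_locally f F hFq hF hfl n hd T j q H hV _ _ fun p hp => ?_
    obtain ⟨W, hWa, hW, hpW, h1⟩ := hind V hV x y p hp
    refine ⟨W, hWa, hW, hpW, fun k hk hq => ?_⟩
    rw [hres V hV W hWa hW k hk hq, hres V hV W hWa hW k hk hq, h1]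
  obtain ⟨ν, hν⟩ := Glue.glue f σ hσ F hFq hF hfl n hd {V | IsAffineOpen V ∧ Nonempty (P V)}
    (fun V hV => hV.1) (fun x V hx => by
      obtain ⟨W, h1, h2, h3, h4⟩ := hP x V hx
      exact ⟨W, ⟨h1, h4⟩, h2, h3⟩) T j q (fun V hV => H V hV.1)
    (fun V hV => U V hV.1 hV.2.some) (fun V hV W hW h k hk hq => by
      rw [hres V hV.1 W hW.1 h k hk hq]
      exact hind' W hW.1 _ _)
  exact ⟨ν, fun V hV x => (hind' V hV _ _).trans (hν V ⟨hV, ⟨x⟩⟩)⟩

end Main

end K184.GlueLoc
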