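import Mathlib.AlgebraicGeometry.Morphisms.Separated
import Mathlib.AlgebraicGeometry.Morphisms.ClosedImmersion
import Mathlib.AlgebraicGeometry.ResidueField
import Mathlib.AlgebraicGeometry.Properties
import Mathlib.AlgebraicGeometry.Morphisms.QuasiCompact

/-!
# The graph of a section after base change

`X ⟶ S`, `Y ⟶ S`, `T = X ×_S Y`, `h : Y ⟶ X` over `S`, `γ : Y ⟶ T` the graph.  For an affine open
`V` of `X` containing the image of `h`, the complement of `γ(Y)` in `j⁻¹V` is the union of the opens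
`D(j^♯ r - q^♯ h^♯ r)`, `r ∈ Γ(X, V)`.
-/

set_option autoImplicit false
universe u

open CategoryTheory CategoryTheory.Limits AlgebraicGeometry TopologicalSpace

namespace K184.Graph

section Gen

variable {T Y : Scheme.{u}}

/-- Morphisms from an affine scheme landing in an affine open agree if they agree on functions. -/
theorem hom_ext {Z X : Scheme.{u}} (a b : Z ⟶ X) [IsAffine Z] {U : X.Opens} (hU : IsAffineOpen U)
    (ea : (⊤ : Z.Opens) ≤ a ⁻¹ᵁ U) (eb : (⊤ : Z.Opens) ≤ b ⁻¹ᵁ U) (h : a.appLE U ⊤ ea = b.appLE U ⊤ eb) :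
    a = b := by
  have h1 := IsAffineOpen.SpecMap_appLE_fromSpec a hU (isAffineOpen_top Z) ea
  have h2 := IsAffineOpen.SpecMap_appLE_fromSpec b hU (isAffineOpen_top Z) eb
  rw [IsAffineOpen.fromSpec_top] at h1 h2
  rw [← cancel_epi Z.isoSpec.inv, ← h1, ← h2, h]

theorem le_preimage_fromSpecResidueField {W : T.Opens} {p : T} (hp : p ∈ W) :
    (⊤ : (Spec (T.residueField p)).Opens) ≤ T.fromSpecResidueField p ⁻¹ᵁ W := by
  intro y _
  change T.fromSpecResidueField p y ∈ W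
  rwa [Scheme.fromSpecResidueField_apply]

theorem appLE_fromSpecResidueField_eq_zero {W : T.Opens} {p : T}
    (e : (⊤ : (Spec (T.residueField p)).Opens) ≤ T.fromSpecResidueField p ⁻¹ᵁ W)
    (z : Γ(T, W)) (hz : p ∉ T.basicOpen z) :
    (T.fromSpecResidueField p).appLE W ⊤ e z = 0 := by
  rw [← AlgebraicGeometry.basicOpen_eq_bot_iff, Scheme.basicOpen_appLE]
  ext y
  simp only [Opens.coe_inf, Set.mem_inter_iff, SetLike.mem_coe, Opens.coe_bot, Set.mem_empty_iff_false,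
    iff_false, not_and]
  intro _ hy
  apply hz
  have h1 : T.fromSpecResidueField p y ∈ T.basicOpen z := hy
  rwa [Scheme.fromSpecResidueField_apply] at h1

/-- A point outside of all the `D(s i)` is outside of `D(z)` for every `z` in the ideal. -/
theorem exists_of_mem_span {W : T.Opens} {ι : Type*} (s : ι → Γ(T, W)) {z : Γ(T, W)}
    (hz : z ∈ Ideal.span (Set.range s)) {p : T} (hp : p ∈ T.basicOpen z) :
    ∃ i, p ∈ T.basicOpen (s i) := by
  by_contra hcon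
  push Not at hcon
  have hpW : p ∈ W := T.basicOpen_le z hp
  have h1 : Ideal.span (Set.range s) ≤ RingHom.ker (T.evaluation W p hpW).hom := by
    rw [Ideal.span_le]
    rintro _ ⟨i, rfl⟩
    exact (Scheme.evaluation_eq_zero_iff_notMem_basicOpen T p hpW (s i)).2 (hcon i)
  exact (Scheme.evaluation_eq_zero_iff_notMem_basicOpen T p hpW z).1 (h1 hz) hp

/-- The same for `G * z` in the ideal. -/
theorem exists_of_mul_mem_span {W : T.Opens} {ι : Type*} (s : ι → Γ(T, W)) {G z : Γ(T, W)}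
    (hz : G * z ∈ Ideal.span (Set.range s)) {p : T} (hG : p ∈ T.basicOpen G) (hp : p ∈ T.basicOpen z) :
    ∃ i, p ∈ T.basicOpen (s i) := by
  refine exists_of_mem_span s hz ?_
  rw [Scheme.basicOpen_mul]
  exact ⟨hG, hp⟩

variable (γ : Y ⟶ T) {W : T.Opens} (e : ⊤ ≤ γ ⁻¹ᵁ W)

/-- Functions vanishing on `γ` define opens missing `γ`. -/
theorem notMem_basicOpen {z : Γ(T, W)} (hz : γ.appLE W ⊤ e z = 0) (y : Y) : γ y ∉ T.basicOpen z := by
  intro h
  have h1 : y ∈ Y.basicOpen (γ.appLE W ⊤ e z) := by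
    rw [Scheme.basicOpen_appLE]
    exact ⟨trivial, h⟩
  rw [hz, Scheme.basicOpen_zero] at h1
  exact h1

/-- Functions invertible on `γ` define opens containing `γ`. -/
theorem mem_basicOpen {z : Γ(T, W)} (hz : IsUnit (γ.appLE W ⊤ e z)) (y : Y) : γ y ∈ T.basicOpen z := by
  have h1 : y ∈ Y.basicOpen (γ.appLE W ⊤ e z) := by
    rw [Scheme.basicOpen_of_isUnit _ hz]
    trivial
  rw [Scheme.basicOpen_appLE] at h1
  exact h1.2

/-- The complement of a closed morphism in an affine open. -/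
theorem exists_of_isClosed (hγ : IsClosed (Set.range γ)) [CompactSpace Y] (hW : IsAffineOpen W) {p : T}
    (hp : p ∈ W) (hpr : p ∉ Set.range γ) : ∃ z : Γ(T, W), γ.appLE W ⊤ e z = 0 ∧ p ∈ T.basicOpen z := by
  let N : T.Opens := ⟨(Set.range γ)ᶜ, hγ.isOpen_compl⟩
  obtain ⟨z, hz1, hz2⟩ := hW.exists_basicOpen_le (V := N) ⟨p, hpr⟩ hp
  have h1 : Y.basicOpen (γ.appLE W ⊤ e z) = ⊥ := by
    rw [Scheme.basicOpen_appLE]
    ext y
    simp only [Opens.coe_inf, Set.mem_inter_iff, SetLike.mem_coe, Opens.coe_bot, Set.mem_empty_iff_false,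
      iff_false, not_and]
    intro _ hy
    exact hz1 (show γ y ∈ T.basicOpen z from hy) ⟨y, rfl⟩
  obtain ⟨n, hn⟩ := (Scheme.isNilpotent_iff_basicOpen_eq_bot _).2 h1
  refine ⟨z ^ (n + 1), by rw [map_pow, pow_succ, hn, zero_mul], ?_⟩
  rw [T.basicOpen_pow z (n := n + 1) (Nat.succ_pos n)]
  exact hz2

/-- The same by generators of the ideal. -/
theorem exists_of_gen_ker (hγ : IsClosed (Set.range γ)) [CompactSpace Y] (hW : IsAffineOpen W) {ι : Type*}
    (s : ι → Γ(T, W)) {G : Γ(T, W)}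
    (hs : ∀ z, γ.appLE W ⊤ e z = 0 → G * z ∈ Ideal.span (Set.range s)) {p : T} (hG : p ∈ T.basicOpen G)
    (hpr : p ∉ Set.range γ) : ∃ i, p ∈ T.basicOpen (s i) := by
  obtain ⟨z, hz, hp⟩ := exists_of_isClosed γ e hγ hW (T.basicOpen_le G hG) hpr
  exact exists_of_mul_mem_span s (hs z hz) hG hp

end Gen

section Graph

variable {X Y S T : Scheme.{u}} {f : X ⟶ S} {g : Y ⟶ S} {j : T ⟶ X} {q : T ⟶ Y}
  (H : IsPullback j q f g) (h : Y ⟶ X) (w : h ≫ f = g)

/-- The graph of `h`. -/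
noncomputable def gr : Y ⟶ T := H.lift h (𝟙 Y) (by rw [Category.id_comp, w])

@[reassoc (attr := simp)]
theorem gr_fst : gr H h w ≫ j = h := H.lift_fst _ _ _

@[reassoc (attr := simp)]
theorem gr_snd : gr H h w ≫ q = 𝟙 Y := H.lift_snd _ _ _

/-- The graph is a closed immersion. -/
theorem isClosedImmersion_gr [IsSeparated f] : IsClosedImmersion (gr H h w) := by
  have h1 : IsSeparated q := MorphismProperty.of_isPullback (P := @IsSeparated) H ‹_›
  have h2 : IsClosedImmersion (gr H h w ≫ q) := by rw [gr_snd]; infer_instance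
  exact IsClosedImmersion.of_comp (gr H h w) q

variable {V : X.Opens} (hh : ⊤ ≤ h ⁻¹ᵁ V)

include hh in
theorem le_preimage_gr : ⊤ ≤ gr H h w ⁻¹ᵁ (j ⁻¹ᵁ V) := by
  rw [← Scheme.Hom.comp_preimage, gr_fst]
  exact hh

/-- The functions `j^♯ r - q^♯ h^♯ r` on `j⁻¹ V`. -/
noncomputable def df (j : T ⟶ X) (q : T ⟶ Y) (h : Y ⟶ X) (hh : ⊤ ≤ h ⁻¹ᵁ V) (r : Γ(X, V)) :
    Γ(T, j ⁻¹ᵁ V) :=
  j.app V r - q.appLE ⊤ (j ⁻¹ᵁ V) le_top (h.appLE V ⊤ hh r)

/-- They vanish on the graph. -/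
theorem appLE_df (r : Γ(X, V)) :
    (gr H h w).appLE (j ⁻¹ᵁ V) ⊤ (le_preimage_gr H h w hh) (df j q h hh r) = 0 := by
  have h1 : j.app V ≫ (gr H h w).appLE (j ⁻¹ᵁ V) ⊤ (le_preimage_gr H h w hh) = h.appLE V ⊤ hh := by
    rw [Scheme.Hom.app_eq_appLE, Scheme.Hom.appLE_comp_appLE]
    congr 1
    exact gr_fst H h w
  have h2 : q.appLE ⊤ (j ⁻¹ᵁ V) le_top ≫ (gr H h w).appLE (j ⁻¹ᵁ V) ⊤ (le_preimage_gr H h w hh) = 𝟙 _ := by
    rw [Scheme.Hom.appLE_comp_appLE]
    have h3 : (gr H h w ≫ q).appLE ⊤ ⊤ le_top = (𝟙 Y : Y ⟶ Y).appLE ⊤ ⊤ le_top := by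
      congr 1
      exact gr_snd H h w
    rw [h3]
    simp [Scheme.Hom.appLE]
  rw [df, map_sub, sub_eq_zero]
  refine (ConcreteCategory.congr_hom h1 r).trans ?_
  exact (ConcreteCategory.congr_hom h2 (h.appLE V ⊤ hh r)).symm

/-- **The complement of the graph.** -/
theorem exists_mem_basicOpen (hV : IsAffineOpen V) {p : T} (hp : p ∈ j ⁻¹ᵁ V)
    (hpr : p ∉ Set.range (gr H h w)) : ∃ r : Γ(X, V), p ∈ T.basicOpen (df j q h hh r) := by
  by_contra hcon
  push Not at hcon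
  let pp := T.fromSpecResidueField p
  have e1 : ⊤ ≤ pp ⁻¹ᵁ (j ⁻¹ᵁ V) := le_preimage_fromSpecResidueField hp
  have ea : ⊤ ≤ (pp ≫ j) ⁻¹ᵁ V := by rw [Scheme.Hom.comp_preimage]; exact e1
  have eb : ⊤ ≤ (pp ≫ q ≫ h) ⁻¹ᵁ V := by
    rw [Scheme.Hom.comp_preimage, Scheme.Hom.comp_preimage]
    intro y _
    exact hh (show q (pp y) ∈ (⊤ : Y.Opens) from trivial)
  have e2 : pp ≫ j = pp ≫ q ≫ h := by
    refine hom_ext _ _ hV ea eb ?_
    have h1 : j.app V ≫ pp.appLE (j ⁻¹ᵁ V) ⊤ e1 = (pp ≫ j).appLE V ⊤ ea := by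
      rw [Scheme.Hom.app_eq_appLE, Scheme.Hom.appLE_comp_appLE]
    have h2 : h.appLE V ⊤ hh ≫ q.appLE ⊤ (j ⁻¹ᵁ V) le_top ≫ pp.appLE (j ⁻¹ᵁ V) ⊤ e1 =
        (pp ≫ q ≫ h).appLE V ⊤ eb := by
      rw [Scheme.Hom.appLE_comp_appLE, Scheme.Hom.appLE_comp_appLE]
      congr 1
    rw [← h1, ← h2]
    ext r
    have h3 := appLE_fromSpecResidueField_eq_zero e1 (df j q h hh r) (hcon r)
    rw [df, map_sub, sub_eq_zero] at h3
    exact h3
  have e3 : pp = (pp ≫ q) ≫ gr H h w := by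
    refine H.hom_ext ?_ ?_
    · rw [Category.assoc, gr_fst, e2, Category.assoc]
    · rw [Category.assoc, gr_snd, Category.comp_id]
  apply hpr
  have y : Spec (T.residueField p) := IsLocalRing.closedPoint _
  refine ⟨(pp ≫ q) y, ?_⟩
  have h4 : pp y = p := Scheme.fromSpecResidueField_apply _ _
  exact (congrArg (fun t : Spec (T.residueField p) ⟶ T => t y) e3).symm.trans h4

/-- The complement of the graph, by generators of the ideal near the graph. -/
theorem exists_of_gen (hV : IsAffineOpen V) {ι : Type*} (s : ι → Γ(T, j ⁻¹ᵁ V)) {G : Γ(T, j ⁻¹ᵁ V)}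
    (hs : ∀ r, G * df j q h hh r ∈ Ideal.span (Set.range s)) {p : T} (hG : p ∈ T.basicOpen G)
    (hpr : p ∉ Set.range (gr H h w)) : ∃ i, p ∈ T.basicOpen (s i) := by
  obtain ⟨r, hr⟩ := exists_mem_basicOpen H h w hh hV (T.basicOpen_le G hG) hpr
  exact exists_of_mul_mem_span s (hs r) hG hr

end Graph

end K184.Graph
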