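import Groth.Agent.DeRhamSh.K184.SecVan
import Groth.Agent.DeRhamSh.K644.KapTop
import Groth.Agent.CohqA.AffineVanish
import Groth.Agent.CohqA.HOpen

/-!
# Surjectivity of the generalized fraction classes for quasi-coherent modules
-/

set_option autoImplicit false
universe u

open CategoryTheory CategoryTheory.Limits AlgebraicGeometry Opposite TopologicalSpace
open Groth.Agent K644.Kap

namespace K184.HcSurj

/-- The intersections attached to a family of basic opens of an affine open are affine. -/
theorem isAffineOpen_dd {X : Scheme.{u}} {O : X.Opens} (hO : IsAffineOpen O) {l : List X.Opens}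
    (hl : ∀ V ∈ l, ∃ t : Γ(X, O), O ⊓ V = X.basicOpen t) : IsAffineOpen (dd O l) := by
  induction l generalizing O with
  | nil => exact hO
  | cons V l ih =>
    obtain ⟨t, ht⟩ := hl V (List.mem_cons_self ..)
    refine ih (O := O ⊓ V) (by rw [ht]; exact hO.basicOpen t) fun V' hV' => ?_
    obtain ⟨t', ht'⟩ := hl V' (List.mem_cons_of_mem _ hV')
    refine ⟨X.presheaf.map (homOfLE (inf_le_left : O ⊓ V ≤ O)).op t', ?_⟩
    rw [X.basicOpen_res t' (homOfLE (inf_le_left : O ⊓ V ≤ O)).op, ← ht']
    ext x
    simp only [Opens.coe_inf, Set.mem_inter_iff]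
    tauto

/-- The intersections attached to a family of affine opens of a separated scheme are affine. -/
theorem isAffineOpen_dd' {X : Scheme.{u}} [X.IsSeparated] {O : X.Opens} (hO : IsAffineOpen O) {l : List X.Opens}
    (hl : ∀ V ∈ l, IsAffineOpen V) : IsAffineOpen (dd O l) := by
  induction l generalizing O with
  | nil => exact hO
  | cons V l ih =>
    exact ih (hO.inf (hl V (List.mem_cons_self ..))) fun V' hV' => hl V' (List.mem_cons_of_mem _ hV')

/-- **Surjectivity.** -/
theorem hc_surjective {X : Scheme.{u}} (c : Cv X.toTopCat) (n : ℕ) (hn : c.l.length = n)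
    (M : X.Modules) (hM : Coh.IsQCoh M)
    (haff : ∀ T : List X.Opens, T.Sublist c.l → IsAffineOpen (X := X) (dd (L := X.Opens) c.O T))
    (h0 : Subsingleton (Coh.HHon X M c.N n)) :
    Function.Surjective (hc c n hn (F := Coh.toAb M)) := by
  refine K644.Kap.hc_surjective c n hn (Coh.toAb M) (fun T hT k => ?_) ?_
  · exact CohqA.AffineVanish.HU_subsingleton M (k + 1) (Nat.succ_pos k) _ (haff T hT)
  · exact (CohqA.HOpen.HHonEquiv M c.N n).toEquiv.subsingleton

/-- **Surjectivity**, for basic opens of an affine open. -/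
theorem hc_surjective_of_basic {X : Scheme.{u}} (c : Cv X.toTopCat) (n : ℕ) (hn : c.l.length = n)
    (M : X.Modules) (hM : Coh.IsQCoh M) (hO : IsAffineOpen (X := X) c.O)
    (hl : ∀ V ∈ c.l, ∃ t : Γ(X, c.O), (show X.Opens from c.O) ⊓ V = X.basicOpen t)
    (h0 : Subsingleton (Coh.HHon X M c.N n)) :
    Function.Surjective (hc c n hn (F := Coh.toAb M)) :=
  hc_surjective c n hn M hM (fun _ hT => isAffineOpen_dd hO fun V hV => hl V (hT.subset hV)) h0

/-- **Surjectivity in the top degree** over an Artinian local base. -/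
theorem hc_surjective_top {A : Type u} [CommRing A] [IsArtinianRing A] [IsLocalRing A]
    {X : Scheme.{u}} (f : X ⟶ Spec (CommRingCat.of A)) [IsProper f] (e : ℕ)
    [SmoothOfRelativeDimension (e + 1) f] [ConnectedSpace X]
    (c : Cv X.toTopCat) (hn : c.l.length = e + 1)
    (M : X.Modules) (hM : Coh.IsQCoh M) (hO : IsAffineOpen (X := X) c.O)
    (hl : ∀ V ∈ c.l, ∃ t : Γ(X, c.O), (show X.Opens from c.O) ⊓ V = X.basicOpen t)
    (hN : c.N ≠ ⊤) :
    Function.Surjective (hc c (e + 1) hn (F := Coh.toAb M)) := by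
  refine hc_surjective_of_basic c (e + 1) hn M hM hO hl ?_
  refine K184.SecVan.main f e (Scheme.Opens.ι (X := X) c.N) ?_ (M.restrict (Scheme.Opens.ι (X := X) c.N)) ?_
  · rw [Scheme.Opens.range_ι]
    intro h
    exact hN (Opens.ext h)
  · infer_instance

end K184.HcSurj
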