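import Groth.Agent.DeRhamSh.K184.Graph
import Groth.Agent.DeRhamSh.K184.HcSurj

/-!
# The data of generalized fractions attached to functions along a section
-/

set_option autoImplicit false
universe u

open CategoryTheory CategoryTheory.Limits AlgebraicGeometry TopologicalSpace
open Groth.Agent K644.Kap

namespace K184.GraphCv

variable {T Y : Scheme.{u}} (γ : Y ⟶ T)

/-- The complement of the image. -/
def cpl (hγ : IsClosed (Set.range γ)) : T.Opens := ⟨(Set.range γ)ᶜ, hγ.isOpen_compl⟩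

theorem mem_cpl {hγ : IsClosed (Set.range γ)} {p : T} : p ∈ cpl γ hγ ↔ p ∉ Set.range γ := Iff.rfl

theorem cpl_ne_top (hγ : IsClosed (Set.range γ)) [Nonempty Y] : cpl γ hγ ≠ ⊤ := by
  intro h
  obtain ⟨y⟩ := ‹Nonempty Y›
  have h1 : γ y ∈ cpl γ hγ := by rw [h]; trivial
  exact h1 ⟨y, rfl⟩

theorem mem_sup {L : List T.Opens} {p : T} : p ∈ sup L ↔ ∃ V ∈ L, p ∈ V := by
  induction L with
  | nil =>
    constructor
    · intro h
      exact absurd h (show p ∉ (⊥ : T.Opens) from fun h => h)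
    · rintro ⟨V, hV, -⟩
      simp at hV
  | cons V L ih =>
    constructor
    · rintro (h | h)
      · obtain ⟨W, hW, hp⟩ := ih.1 h
        exact ⟨W, List.mem_cons_of_mem _ hW, hp⟩
      · exact ⟨V, List.mem_cons_self .., h⟩
    · rintro ⟨W, hW, hp⟩
      rcases List.mem_cons.1 hW with rfl | h
      · exact Or.inr hp
      · exact Or.inl (ih.2 ⟨W, h, hp⟩)

/-- **The datum** attached to functions `t` on a neighbourhood `W` of `γ(Y)` which vanish on `γ` and have
no other common zero on `W`. -/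
def cv (hγ : IsClosed (Set.range γ)) {W : T.Opens} (e : ⊤ ≤ γ ⁻¹ᵁ W) {n : ℕ} (t : Fin n → Γ(T, W))
    (ht : ∀ i, γ.appLE W ⊤ e (t i) = 0)
    (hc : ∀ p ∈ W, p ∉ Set.range γ → ∃ i, p ∈ T.basicOpen (t i)) : Cv T.toTopCat where
  O := W
  N := cpl γ hγ
  l := List.ofFn fun i => T.basicOpen (t i)
  h1 := by
    rintro p ⟨-, hp⟩
    obtain ⟨V, hV, hp⟩ := mem_sup.1 hp
    obtain ⟨i, rfl⟩ := (List.mem_ofFn' _ _).1 hV
    rintro ⟨y, rfl⟩
    exact K184.Graph.notMem_basicOpen γ e (ht i) y hp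
  h2 := by
    intro p _
    by_cases h : p ∈ Set.range γ
    · obtain ⟨y, rfl⟩ := h
      exact Or.inl (e (show y ∈ (⊤ : Y.Opens) from trivial))
    · exact Or.inr h
  h3 := by
    rintro p ⟨hp, hp'⟩
    obtain ⟨i, hi⟩ := hc p hp hp'
    exact mem_sup.2 ⟨_, (List.mem_ofFn' _ _).2 ⟨i, rfl⟩, hi⟩

variable (hγ : IsClosed (Set.range γ)) {W : T.Opens} (e : ⊤ ≤ γ ⁻¹ᵁ W) {n : ℕ} (t : Fin n → Γ(T, W))
    (ht : ∀ i, γ.appLE W ⊤ e (t i) = 0)
    (hc : ∀ p ∈ W, p ∉ Set.range γ → ∃ i, p ∈ T.basicOpen (t i))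

@[simp] theorem cv_O : (cv γ hγ e t ht hc).O = W := rfl
@[simp] theorem cv_N : (cv γ hγ e t ht hc).N = cpl γ hγ := rfl
@[simp] theorem cv_l : (cv γ hγ e t ht hc).l = List.ofFn fun i => T.basicOpen (t i) := rfl
theorem length_cv : (cv γ hγ e t ht hc).l.length = n := by simp

/-- The intersections of the datum. -/
theorem dd_eq (W : T.Opens) {n : ℕ} (t : Fin n → Γ(T, W)) :
    dd W (List.ofFn fun i => T.basicOpen (t i)) = T.basicOpen (∏ i, t i) := by
  induction n generalizing W with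
  | zero =>
    rw [List.ofFn_zero]
    change W = _
    simp [Scheme.basicOpen_one]
  | succ n ih =>
    rw [List.ofFn_succ]
    change dd (W ⊓ T.basicOpen (t 0)) (List.ofFn fun i : Fin n => T.basicOpen (t i.succ)) = _
    have h0 : W ⊓ T.basicOpen (t 0) = T.basicOpen (t 0) := inf_eq_right.2 (T.basicOpen_le _)
    have h1 : dd (W ⊓ T.basicOpen (t 0)) (List.ofFn fun i : Fin n => T.basicOpen (t i.succ)) =
        T.basicOpen (t 0) ⊓ dd W (List.ofFn fun i : Fin n => T.basicOpen (t i.succ)) := by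
      rw [h0]
      apply le_antisymm
      · exact le_inf (dd_le _ _) (dd_mono (T.basicOpen_le _) _)
      · refine le_dd inf_le_left fun V hV => inf_le_right.trans (dd_le_mem _ _ hV)
    rw [h1, ih W fun i => t i.succ, Fin.prod_univ_succ, Scheme.basicOpen_mul]

/-- **Surjectivity in the top degree** over an Artinian local base. -/
theorem hc_surjective {A : Type u} [CommRing A] [IsArtinianRing A] [IsLocalRing A]
    (f : T ⟶ Spec (CommRingCat.of A)) [IsProper f] (m : ℕ) [SmoothOfRelativeDimension (m + 1) f]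
    [ConnectedSpace T] [Nonempty Y] (hW : IsAffineOpen W) (hn : n = m + 1) (M : T.Modules) (hM : Coh.IsQCoh M) :
    Function.Surjective (K644.Kap.hc (cv γ hγ e t ht hc) (m + 1) ((length_cv γ hγ e t ht hc).trans hn)
      (F := Coh.toAb M)) := by
  refine K184.HcSurj.hc_surjective_top f m _ _ M hM hW (fun V hV => ?_) (cpl_ne_top γ hγ)
  obtain ⟨i, rfl⟩ := (List.mem_ofFn' _ _).1 hV
  exact ⟨t i, inf_eq_right.2 (T.basicOpen_le _)⟩

end K184.GraphCv
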