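import Mathlib.AlgebraicGeometry.Morphisms.Smooth
import Mathlib.RingTheory.Artinian.Ring
import Mathlib.RingTheory.Jacobson.Ring
import Mathlib.FieldTheory.IsAlgClosed.Basic
import Mathlib.RingTheory.Smooth.Basic

/-!
# Sections of smooth schemes over Artinian local rings with algebraically closed residue field
-/

set_option autoImplicit false
universe u

open CategoryTheory CategoryTheory.Limits AlgebraicGeometry

namespace K184.Sect

section Alg

variable {A B : Type u} [CommRing A] [IsArtinianRing A] [IsLocalRing A]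
  [IsAlgClosed (IsLocalRing.ResidueField A)] [CommRing B] [Nontrivial B] [Algebra A B]
  [Algebra.FiniteType A B]

omit [Nontrivial B] [IsAlgClosed (IsLocalRing.ResidueField A)] [Algebra.FiniteType A B] in
theorem isNilpotent_maximalIdeal : IsNilpotent (IsLocalRing.maximalIdeal A) := by
  rw [← IsLocalRing.jacobson_eq_maximalIdeal ⊥ bot_ne_top]
  exact IsArtinianRing.isNilpotent_jacobson_bot

/-- A residual point. -/
theorem exists_algHom_residue : Nonempty (B →ₐ[A] IsLocalRing.ResidueField A) := by
  obtain ⟨m, hm⟩ := Ideal.exists_maximal B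
  let _ : Field (B ⧸ m) := Ideal.Quotient.field m
  have hloc : IsLocalHom (algebraMap A (B ⧸ m)) := by
    constructor
    intro a ha
    by_contra h
    have h1 : a ∈ IsLocalRing.maximalIdeal A := (IsLocalRing.mem_maximalIdeal a).2 h
    obtain ⟨n, hn⟩ := isNilpotent_maximalIdeal (A := A)
    have h2 : a ^ n = 0 := by
      have := Ideal.pow_mem_pow h1 n
      rw [hn] at this
      exact this
    have h3 : IsNilpotent (algebraMap A (B ⧸ m) a) := ⟨n, by rw [← map_pow, h2, map_zero]⟩
    exact h3.not_isUnit ha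
  let _ : Algebra (IsLocalRing.ResidueField A) (B ⧸ m) :=
    (IsLocalRing.ResidueField.lift (algebraMap A (B ⧸ m))).toAlgebra
  have hst : IsScalarTower A (IsLocalRing.ResidueField A) (B ⧸ m) :=
    IsScalarTower.of_algebraMap_eq' (IsLocalRing.ResidueField.lift_comp_residue _).symm
  have hft : Algebra.FiniteType (IsLocalRing.ResidueField A) (B ⧸ m) :=
    Algebra.FiniteType.of_restrictScalars_finiteType A _ _
  have hfin : Module.Finite (IsLocalRing.ResidueField A) (B ⧸ m) :=
    finite_of_finite_type_of_isJacobsonRing _ (B ⧸ m)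
  have hbij := IsAlgClosed.algebraMap_bijective_of_isIntegral
    (k := IsLocalRing.ResidueField A) (K := B ⧸ m)
  let e : IsLocalRing.ResidueField A ≃ₐ[IsLocalRing.ResidueField A] (B ⧸ m) :=
    AlgEquiv.ofBijective (Algebra.ofId _ (B ⧸ m)) hbij
  exact ⟨(e.symm.toAlgHom.restrictScalars A).comp (Ideal.Quotient.mkₐ A m)⟩

/-- **Smooth algebras over such rings have points.** -/
theorem exists_algHom [Algebra.FormallySmooth A B] : Nonempty (B →ₐ[A] A) := by
  obtain ⟨g⟩ := exists_algHom_residue (A := A) (B := B)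
  refine ⟨Algebra.FormallySmooth.liftOfSurjective g
    (Algebra.ofId A (IsLocalRing.ResidueField A)) Ideal.Quotient.mk_surjective ?_⟩
  have h : RingHom.ker (IsLocalRing.residue A) = IsLocalRing.maximalIdeal A := IsLocalRing.ker_residue
  change IsNilpotent (RingHom.ker (IsLocalRing.residue A))
  rw [h]
  exact isNilpotent_maximalIdeal

end Alg

/-- **Smooth schemes over such rings have sections.** -/
theorem exists_section {A : Type u} [CommRing A] [IsArtinianRing A] [IsLocalRing A]
    [IsAlgClosed (IsLocalRing.ResidueField A)] {X : Scheme.{u}}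
    (f : X ⟶ Spec (CommRingCat.of A)) [Smooth f] [Nonempty X] :
    ∃ s : Spec (CommRingCat.of A) ⟶ X, s ≫ f = 𝟙 _ := by
  obtain ⟨x⟩ := ‹Nonempty X›
  obtain ⟨V, hV, hx, -⟩ := exists_isAffineOpen_mem_and_subset (x := x) (U := ⊤) trivial
  have : Nonempty V := ⟨⟨x, hx⟩⟩
  have hnt : Nontrivial Γ(X, V) := inferInstance
  let φ : CommRingCat.of A ⟶ Γ(X, V) := Spec.preimage (hV.fromSpec ≫ f)
  have hφ : Spec.map φ = hV.fromSpec ≫ f := Spec.map_preimage _
  have hs : Smooth (Spec.map φ) := by rw [hφ]; infer_instance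
  have hs' : φ.hom.Smooth := (HasRingHomProperty.Spec_iff (P := @Smooth)).1 hs
  let _ : Algebra A Γ(X, V) := φ.hom.toAlgebra
  have hs2 : Algebra.Smooth A Γ(X, V) := hs'
  have h1 : Algebra.FormallySmooth A Γ(X, V) := inferInstance
  have h2 : Algebra.FinitePresentation A Γ(X, V) := inferInstance
  obtain ⟨g⟩ := exists_algHom (A := A) (B := Γ(X, V))
  refine ⟨Spec.map (CommRingCat.ofHom g.toRingHom) ≫ hV.fromSpec, ?_⟩
  rw [Category.assoc, ← hφ, ← Spec.map_comp, ← Spec.map_id]
  congr 1
  ext a
  exact g.commutes a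

end K184.Sect
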